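/-
Subgroups given by a list of elements closed under multiplication, and their generators.
-/
import Mathlib

set_option autoImplicit false

namespace Cfsg.Agent.H50

open Subgroup

universe u

variable {G : Type u} [Group G] [Finite G]

/-- the subgroup on a list closed under multiplication -/
def listSubgroup (l : List G) (h1 : (1 : G) ∈ l) (hm : ∀ x ∈ l, ∀ y ∈ l, x * y ∈ l) : Subgroup G :=
  subgroupOfIdempotent {x | x ∈ l} ⟨1, h1⟩ (by
    ext x
    refine ⟨?_, fun hx => ⟨1, h1, x, hx, one_mul x⟩⟩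
    rintro ⟨a, ha, b, hb, rfl⟩
    exact hm a ha b hb)

theorem mem_listSubgroup {l : List G} {h1 : (1 : G) ∈ l} {hm : ∀ x ∈ l, ∀ y ∈ l, x * y ∈ l} {x : G} :
    x ∈ listSubgroup l h1 hm ↔ x ∈ l := Iff.rfl

theorem card_listSubgroup [DecidableEq G] {l : List G} {h1 : (1 : G) ∈ l}
    {hm : ∀ x ∈ l, ∀ y ∈ l, x * y ∈ l} (hn : l.Nodup) :
    Nat.card (listSubgroup l h1 hm) = l.length := by
  rw [← List.toFinset_card_of_nodup hn, ← Nat.card_eq_finsetCard]
  exact Nat.card_congr (Equiv.subtypeEquivRight fun x => by rw [mem_listSubgroup, List.mem_toFinset])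

/-- products `r ^ i * s ^ j` -/
def prodList (r s : G) (m k : ℕ) : List G :=
  (List.range m).flatMap fun i => (List.range k).map fun j => r ^ i * s ^ j

/-- a subgroup of all products of powers of `r` and `s` is generated by them -/
theorem exists_gens {r s : G} {m k : ℕ} (h1 : (1 : G) ∈ prodList r s m k)
    (hm : ∀ x ∈ prodList r s m k, ∀ y ∈ prodList r s m k, x * y ∈ prodList r s m k)
    (hr : r ∈ prodList r s m k) (hs : s ∈ prodList r s m k) :
    ∃ r' s' : listSubgroup (prodList r s m k) h1 hm, (r' : G) = r ∧ (s' : G) = s ∧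
      closure {r', s'} = ⊤ := by
  refine ⟨⟨r, hr⟩, ⟨s, hs⟩, rfl, rfl, eq_top_iff.2 fun x _ => ?_⟩
  have hx := mem_listSubgroup.1 x.2
  simp only [prodList, List.mem_flatMap, List.mem_map] at hx
  obtain ⟨i, -, j, -, hij⟩ := hx
  have e : x = ⟨r, hr⟩ ^ i * ⟨s, hs⟩ ^ j := Subtype.ext hij.symm
  rw [e]
  exact mul_mem (pow_mem (subset_closure (by simp)) i) (pow_mem (subset_closure (by simp)) j)

/-- the products are closed when `s` normalises the powers of `r` -/
theorem prodList_facts {r s : G} {m k t : ℕ} (hm0 : 0 < m) (hk0 : 0 < k) (hr : r ^ m = 1)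
    (hs : s ^ k = 1) (hsr : s * r = r ^ t * s) :
    (1 : G) ∈ prodList r s m k ∧ r ∈ prodList r s m k ∧ s ∈ prodList r s m k ∧
      ∀ x ∈ prodList r s m k, ∀ y ∈ prodList r s m k, x * y ∈ prodList r s m k := by
  have mem : ∀ i j : ℕ, r ^ i * s ^ j ∈ prodList r s m k := fun i j => by
    simp only [prodList, List.mem_flatMap, List.mem_map, List.mem_range]
    exact ⟨i % m, Nat.mod_lt _ hm0, j % k, Nat.mod_lt _ hk0,
      by rw [← pow_eq_pow_mod _ hr, ← pow_eq_pow_mod _ hs]⟩
  have h1 : ∀ i : ℕ, s * r ^ i = r ^ (t * i) * s := by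
    intro i
    induction i with
    | zero => simp
    | succ i ih =>
      rw [pow_succ, ← mul_assoc, ih, mul_assoc, hsr, ← mul_assoc, ← pow_add, Nat.mul_succ]
  have hj : ∀ i j : ℕ, ∃ i' : ℕ, s ^ j * r ^ i = r ^ i' * s ^ j := by
    intro i j
    induction j generalizing i with
    | zero => exact ⟨i, by simp⟩
    | succ j ih =>
      obtain ⟨i', e⟩ := ih (t * i)
      exact ⟨i', by rw [pow_succ, mul_assoc, h1, ← mul_assoc, e, mul_assoc]⟩
  refine ⟨by simpa using mem 0 0, by simpa using mem 1 0, by simpa using mem 0 1, ?_⟩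
  intro x hx y hy
  simp only [prodList, List.mem_flatMap, List.mem_map] at hx hy
  obtain ⟨i, -, j, -, rfl⟩ := hx
  obtain ⟨i₂, -, j₂, -, rfl⟩ := hy
  obtain ⟨i', e⟩ := hj i₂ j
  rw [mul_assoc, ← mul_assoc (s ^ j), e, mul_assoc, ← pow_add, ← mul_assoc, ← pow_add]
  exact mem _ _

end Cfsg.Agent.H50
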