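/-
Criterion for a trivial Schur multiplier (stem extension form of Def_KGroupFacts):
transfer into the preimage of a subgroup of index prime to `p`, plus "rigid" subgroups.
-/
import Cfsg.Prelude.Def_KGroupFacts
import Mathlib

set_option autoImplicit false

namespace Cfsg.Agent.H50

open Subgroup

universe u

/-- `Q` is rigid at `p`: in every finite central extension of `Q` no element of order `p` of the
kernel is in the commutator subgroup. -/
def RigidAt (p : ℕ) (Q : Type u) [Group Q] : Prop :=
  ∀ (P : Type u) [Group P] [Finite P] (π : P →* Q), Function.Surjective π →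
    π.ker ≤ center P → ∀ z ∈ π.ker, z ∈ commutator P → z ^ p = 1 → z = 1

/-- transfer: a `p`-torsion kernel element of a stem extension lies in the commutator subgroup of
the preimage of any subgroup of index prime to `p`. -/
theorem mem_commutator_comap {Γ G : Type u} [Group Γ] [Group G] [Finite Γ] {σ : Γ →* G}
    (hσ : IsStemExtension σ) {p : ℕ} (Q : Subgroup G) (hQ : p.Coprime Q.index)
    (z : Γ) (hz : z ∈ σ.ker) (hzp : z ^ p = 1) :
    ∃ hzQ : z ∈ Q.comap σ, (⟨z, hzQ⟩ : Q.comap σ) ∈ commutator ↥(Q.comap σ) := by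
  set P := Q.comap σ with hP
  have hzP : z ∈ P := by
    rw [hP, mem_comap, MonoidHom.mem_ker.1 hz]; exact one_mem Q
  have hidx : P.index = Q.index := Q.index_comap_of_surjective hσ.1
  have hc : ∀ g : Γ, g * z = z * g := fun g => (mem_center_iff.1 (hσ.2.1 hz) g)
  refine ⟨hzP, ?_⟩
  let ϕ : ↥P →* Abelianization ↥P := Abelianization.of
  have key : ∀ (k : ℕ) (g₀ : Γ), g₀⁻¹ * z ^ k * g₀ ∈ P → g₀⁻¹ * z ^ k * g₀ = z ^ k := by
    intro k g₀ _
    have : Commute g₀ (z ^ k) := Commute.pow_right (hc g₀) k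
    rw [mul_assoc, ← this.eq, inv_mul_cancel_left]
  have h1 : MonoidHom.transfer ϕ z = 1 := by
    have : commutator Γ ≤ (MonoidHom.transfer ϕ).ker := Abelianization.commutator_subset_ker _
    exact MonoidHom.mem_ker.1 (this (hσ.2.2 hz))
  rw [MonoidHom.transfer_eq_pow ϕ z key] at h1
  have h2 : (⟨z, hzP⟩ : ↥P) ^ P.index ∈ commutator ↥P := by
    rw [← Abelianization.ker_of, MonoidHom.mem_ker]
    exact (congrArg ϕ (Subtype.ext rfl)).trans h1
  have h3 : (⟨z, hzP⟩ : ↥P) ^ p = 1 := Subtype.ext hzp
  have hbez := Nat.gcd_eq_gcd_ab p Q.index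
  rw [hQ.gcd_eq_one] at hbez
  rw [hidx] at h2
  have := zpow_mem h2 (Nat.gcdB p Q.index)
  rw [← zpow_natCast, ← zpow_mul] at this
  have e : (⟨z, hzP⟩ : ↥P) ^ ((p : ℤ) * Nat.gcdA p Q.index) = 1 := by
    rw [zpow_mul, zpow_natCast, h3, one_zpow]
  have e2 := mul_mem (one_mem (commutator ↥P)) this
  rw [← e, ← zpow_add, ← hbez, Nat.cast_one, zpow_one] at e2
  exact e2

theorem hasTrivialMultiplier_iff {G : Type u} [Group G] [Finite G] :
    HasCyclicSchurMultiplier G 1 ↔
      ∀ (Γ : Type u) [Group Γ] [Finite Γ] (σ : Γ →* G), IsStemExtension σ → σ.ker = ⊥ := by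
  constructor
  · intro h Γ _ _ σ hσ
    obtain ⟨π, hπ⟩ := h.2 Γ σ hσ
    have : Subsingleton σ.ker := hπ.subsingleton
    exact Subgroup.eq_bot_of_subsingleton _
  · intro h
    refine ⟨⟨G, inferInstance, inferInstance, MonoidHom.id G, ⟨Function.surjective_id, ?_, ?_⟩, ?_⟩, ?_⟩
    · simp [MonoidHom.ker_id]
    · simp [MonoidHom.ker_id]
    · have : Subsingleton (MonoidHom.id G).ker := by
        rw [MonoidHom.ker_id]; infer_instance
      let : Unique (MonoidHom.id G).ker := uniqueOfSubsingleton 1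
      exact ⟨MulEquiv.ofUnique⟩
    · intro Γ _ _ σ hσ
      refine ⟨1, fun y => ⟨1, ?_⟩⟩
      have hy : (y : Γ) = 1 := by
        exact mem_bot.1 ((h Γ σ hσ).le y.2)
      exact Subtype.ext hy.symm

/-- The multiplier is trivial if for every prime no kernel element of that order survives. -/
theorem hasTrivialMultiplier_of_forall_prime {G : Type u} [Group G] [Finite G]
    (h : ∀ (Γ : Type u) [Group Γ] [Finite Γ] (σ : Γ →* G), IsStemExtension σ →
      ∀ p : ℕ, p.Prime → ∀ z ∈ σ.ker, z ^ p = 1 → z = 1) :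
    HasCyclicSchurMultiplier G 1 := by
  refine hasTrivialMultiplier_iff.2 fun Γ _ _ σ hσ => ?_
  by_contra hne
  have : Nat.card σ.ker ≠ 1 := fun hh => hne (Subgroup.card_eq_one.1 hh)
  obtain ⟨p, hp, hpd⟩ := Nat.exists_prime_and_dvd this
  have := Fact.mk hp
  obtain ⟨x, hx⟩ := exists_prime_orderOf_dvd_card' p hpd
  have hx1 : (x : Γ) ^ p = 1 := by rw [← SubgroupClass.coe_pow, ← hx, pow_orderOf_eq_one]; rfl
  have := h Γ σ hσ p hp x x.2 hx1
  have hx' : x = 1 := Subtype.ext this
  rw [hx', orderOf_one] at hx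
  exact hp.one_lt.ne hx

/-- A rigid subgroup of index prime to `p` kills the `p`-part. -/
theorem eq_one_of_rigidAt {Γ G : Type u} [Group Γ] [Group G] [Finite Γ] {σ : Γ →* G}
    (hσ : IsStemExtension σ) {p : ℕ} (Q : Subgroup G) (hQ : p.Coprime Q.index)
    (hR : RigidAt p ↥Q) (z : Γ) (hz : z ∈ σ.ker) (hzp : z ^ p = 1) : z = 1 := by
  obtain ⟨hzQ, hc⟩ := mem_commutator_comap hσ Q hQ z hz hzp
  let π : ↥(Q.comap σ) →* ↥Q := σ.subgroupComap Q
  have hπs : Function.Surjective π := MonoidHom.subgroupComap_surjective_of_surjective σ Q hσ.1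
  have hπk : π.ker ≤ center ↥(Q.comap σ) := by
    intro x hx
    have hx' : (x : Γ) ∈ σ.ker := congrArg Subtype.val (MonoidHom.mem_ker.1 hx)
    exact mem_center_iff.2 fun g => Subtype.ext (mem_center_iff.1 (hσ.2.1 hx') g)
  have := hR _ π hπs hπk ⟨z, hzQ⟩ (MonoidHom.mem_ker.2 (Subtype.ext hz)) hc (Subtype.ext hzp)
  exact congrArg Subtype.val this

theorem rigidAt_congr {p : ℕ} {Q R : Type u} [Group Q] [Group R] (e : Q ≃* R) (h : RigidAt p Q) :
    RigidAt p R := by
  intro P _ _ π hs hk
  have hker : (e.symm.toMonoidHom.comp π).ker = π.ker := by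
    ext x; simp
  have := h P (e.symm.toMonoidHom.comp π) (e.symm.surjective.comp hs) (by rw [hker]; exact hk)
  rwa [hker] at this

theorem rigidAt_of_isCyclic (p : ℕ) (Q : Type u) [Group Q] [IsCyclic Q] : RigidAt p Q := by
  intro P _ _ π _ hk z _ hc _
  have hcomm : ∀ a b : P, a * b = b * a := by
    intro a b
    exact (MonoidHom.isMulCommutative_of_isCyclic_of_ker_le_center π hk).is_comm.comm a b
  have : commutator P = ⊥ := by
    rw [_root_.commutator_def, eq_bot_iff, commutator_le]
    intro a _ b _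
    rw [mem_bot, commutatorElement_eq_one_iff_mul_comm]
    exact hcomm a b
  rw [this, mem_bot] at hc
  exact hc

/-- generalised quaternion groups (presented by two elements) are rigid -/
theorem rigidAt_quaternion (p : ℕ) {Q : Type u} [Group Q] (a b : Q) (m : ℕ)
    (ha : orderOf a = 2 * m) (hb : b ^ 2 = a ^ m) (hba : b * a * b⁻¹ = a⁻¹)
    (hgen : closure {a, b} = ⊤) : RigidAt p Q := by
  intro P _ _ π hs hk z hzk hzc _
  obtain ⟨A, rfl⟩ := hs a
  obtain ⟨B, rfl⟩ := hs b
  have cen : ∀ {w : P}, π w = 1 → ∀ g : P, g * w = w * g := fun hw g =>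
    mem_center_iff.1 (hk (MonoidHom.mem_ker.2 hw)) g
  set d := A * B * A⁻¹ * B⁻¹ with hd
  have hz0 : π (A * (B * A * B⁻¹)) = 1 := by
    rw [map_mul, map_mul, map_mul, map_inv, hba, mul_inv_cancel]
  set z0 := A * (B * A * B⁻¹) with hz0d
  have e1 : B * A * B⁻¹ = A⁻¹ * z0 := by rw [hz0d]; group
  have hd2 : d = A * A * z0⁻¹ := by
    have : d = A * (B * A * B⁻¹)⁻¹ := by rw [hd]; group
    rw [this, e1, mul_inv_rev, inv_inv, ← cen (w := z0⁻¹) (by rw [map_inv, hz0, inv_one]) A,
      mul_assoc]
  have hz0c : ∀ g : P, Commute g z0 := fun g => cen hz0 g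
  have hAd : A * d * A⁻¹ = d := by
    rw [hd2]
    have := (hz0c A).inv_right
    rw [← mul_assoc, ← mul_assoc, mul_assoc (A * A * A), ← (this.inv_left).eq]
    group
  have hBd : B * d * B⁻¹ = d⁻¹ := by
    have h1 : B * d * B⁻¹ = (B * A * B⁻¹) * (B * A * B⁻¹) * (B * z0⁻¹ * B⁻¹) := by rw [hd2]; group
    rw [h1, e1, ((hz0c B).inv_right).eq, mul_assoc (z0⁻¹), mul_inv_cancel, mul_one, hd2]
    have c := hz0c A⁻¹
    calc A⁻¹ * z0 * (A⁻¹ * z0) * z0⁻¹ = A⁻¹ * z0 * A⁻¹ := by group
      _ = A⁻¹ * A⁻¹ * z0 := by rw [mul_assoc, ← c.eq, ← mul_assoc]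
      _ = (A * A * z0⁻¹)⁻¹ := by
        clear_value z0 d
        rw [mul_inv_rev, inv_inv, mul_inv_rev]
        exact ((c.mul_left c)).eq
  -- generators of `P`
  have hgenP : closure ({A, B} ∪ (π.ker : Set P)) = ⊤ := by
    rw [eq_top_iff]
    intro x _
    have hsub : closure {π A, π B} ≤ (closure ({A, B} ∪ (π.ker : Set P))).map π := by
      rw [closure_le, Set.insert_subset_iff, Set.singleton_subset_iff]
      exact ⟨mem_map_of_mem π (subset_closure (by simp)), mem_map_of_mem π (subset_closure (by simp))⟩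
    obtain ⟨y, hy, hyx⟩ := hsub (by rw [hgen]; exact mem_top (π x))
    have : y⁻¹ * x ∈ closure ({A, B} ∪ (π.ker : Set P)) :=
      subset_closure (Or.inr (by simp [hyx]))
    simpa using mul_mem hy this
  set D := zpowers d
  have hDn : D.Normal := by
    rw [← normalizer_eq_top_iff, eq_top_iff, ← hgenP, closure_le]
    have key : ∀ g : P, g * d * g⁻¹ ∈ D → g⁻¹ * d * g ∈ D → g ∈ normalizer (D : Set P) := by
      intro g h1 h2
      rw [mem_normalizer_iff]
      intro h
      constructor
      · rintro ⟨i, rfl⟩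
        simp only [← conj_zpow]
        exact zpow_mem h1 i
      · rintro ⟨i, hi⟩
        have : h = (g⁻¹ * d * g) ^ i := by
          have e := conj_zpow (i := i) (a := g⁻¹) (b := d)
          rw [inv_inv] at e
          simp only at hi
          rw [e, hi]; group
        rw [this]
        exact zpow_mem h2 i
    rintro x ((rfl | rfl) | hx)
    · refine key _ (by rw [hAd]; exact mem_zpowers d) ?_
      have : x⁻¹ * d * x = d := by
        conv_lhs => rw [← hAd]
        group
      rw [this]; exact mem_zpowers d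
    · refine key _ (by rw [hBd]; exact inv_mem (mem_zpowers d)) ?_
      have : x⁻¹ * d * x = d⁻¹ := by
        have h' : x * d⁻¹ * x⁻¹ = d := by rw [← conj_inv, hBd, inv_inv]
        conv_lhs => rw [← h']
        group
      rw [this]; exact inv_mem (mem_zpowers d)
    · have := cen (MonoidHom.mem_ker.1 hx)
      refine key x ?_ ?_
      · rw [← this d, mul_inv_cancel_right]; exact mem_zpowers d
      · rw [mul_assoc, this d, inv_mul_cancel_left]; exact mem_zpowers d
  have hcD : commutator P ≤ D := by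
    let q := QuotientGroup.mk' D
    have hAB : Commute (q A) (q B) := by
      rw [← commutatorElement_eq_one_iff_commute, ← map_commutatorElement,
        commutatorElement_def, QuotientGroup.mk'_apply, QuotientGroup.eq_one_iff]
      exact mem_zpowers d
    have hz : ∀ w ∈ π.ker, ∀ g, Commute (q g) (q w) := fun w hw g =>
      (show Commute g w from cen (MonoidHom.mem_ker.1 hw) g).map q
    have hall : ∀ x y : P, Commute (q x) (q y) := by
      have h1 : ∀ g ∈ ({A, B} ∪ (π.ker : Set P) : Set P), ∀ x : P, Commute (q g) (q x) := by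
        intro g hg x
        have : x ∈ closure ({A, B} ∪ (π.ker : Set P)) := by rw [hgenP]; trivial
        induction this using closure_induction with
        | mem y hy =>
          rcases hg with (rfl | rfl) | hg <;> rcases hy with (rfl | rfl) | hy <;>
            first
              | exact Commute.refl _
              | exact hAB
              | exact hAB.symm
              | exact hz _ hy _
              | exact (hz _ hg _).symm
        | one => rw [map_one]; exact Commute.one_right _
        | mul y w _ _ ih1 ih2 => rw [map_mul]; exact ih1.mul_right ih2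
        | inv y _ ih => rw [map_inv]; exact ih.inv_right
      intro x y
      have : x ∈ closure ({A, B} ∪ (π.ker : Set P)) := by rw [hgenP]; trivial
      induction this using closure_induction with
      | mem g hg => exact h1 g hg y
      | one => rw [map_one]; exact Commute.one_left _
      | mul g w _ _ ih1 ih2 => rw [map_mul]; exact ih1.mul_left ih2
      | inv g _ ih => rw [map_inv]; exact ih.inv_left
    rw [_root_.commutator_def, commutator_le]
    intro x _ y _
    rw [← QuotientGroup.eq_one_iff, ← QuotientGroup.mk'_apply, map_commutatorElement,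
      commutatorElement_eq_one_iff_commute]
    exact hall x y
  have hdm : d ^ m = 1 := by
    have hBB : π ((A ^ m)⁻¹ * B ^ 2) = 1 := by rw [map_mul, map_inv, map_pow, map_pow, hb, inv_mul_cancel]
    have hB2 : Commute B (A ^ m) := by
      have hc := cen hBB B
      have : A ^ m = B ^ 2 * ((A ^ m)⁻¹ * B ^ 2)⁻¹ := by group
      rw [this]
      exact ((Commute.refl B).pow_right 2).mul_right (Commute.inv_right hc)
    have h1 : (A⁻¹ * z0) ^ m = A ^ m := by
      rw [← e1, conj_pow, hB2.eq, mul_inv_cancel_right]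
    rw [(hz0c A⁻¹).mul_pow, inv_pow] at h1
    rw [hd2, (((hz0c A).mul_left (hz0c A)).inv_right).mul_pow, (Commute.refl A).mul_pow, inv_pow]
    have : z0 ^ m = A ^ m * A ^ m := inv_mul_eq_iff_eq_mul.1 h1
    rw [← this, mul_inv_cancel]
  obtain ⟨i, rfl⟩ := hcD hzc
  have hzk' : π d ^ i = 1 := by
    have := MonoidHom.mem_ker.1 hzk
    simpa only [map_zpow] using this
  have hpd : π d = π A ^ 2 := by rw [hd2, map_mul, map_mul, map_inv, hz0, inv_one, mul_one, sq]
  rw [hpd, ← zpow_natCast, ← zpow_mul, ← orderOf_dvd_iff_zpow_eq_one, ha] at hzk'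
  have hmi : (m : ℤ) ∣ i := by
    obtain ⟨c, hc⟩ := hzk'
    push_cast at hc
    exact ⟨c, by linarith⟩
  obtain ⟨c, rfl⟩ := hmi
  show d ^ ((m : ℤ) * c) = 1
  rw [zpow_mul, zpow_natCast, hdm, one_zpow]

end Cfsg.Agent.H50
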