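/-
Upper bounds for the kernels of stem extensions: dihedral and two-generated abelian Sylow subgroups
leave at most a cyclic part, cyclic Sylow subgroups nothing; assembly of the 2- and 3-parts.
-/
import Cfsg.Agent.H50.SchurRigid
import Cfsg.Agent.H74.SchurBasic
import Mathlib

set_option autoImplicit false

namespace Cfsg.Agent.H50

open Subgroup
open scoped commutatorElement

universe u v

variable {Γ G : Type u} [Group Γ] [Group G]

/-- a normalised commutator generates the commutator subgroup over central elements -/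
theorem commutator_le_zpowers {P : Type u} [Group P] {Z : Subgroup P} (hZ : Z ≤ center P) {A B : P}
    (hgen : closure ({A, B} ∪ (Z : Set P)) = ⊤) (hA : ∃ i : ℤ, A * ⁅A, B⁆ * A⁻¹ = ⁅A, B⁆ ^ i ∧
      A⁻¹ * ⁅A, B⁆ * A ∈ zpowers ⁅A, B⁆)
    (hB : B * ⁅A, B⁆ * B⁻¹ ∈ zpowers ⁅A, B⁆ ∧ B⁻¹ * ⁅A, B⁆ * B ∈ zpowers ⁅A, B⁆) :
    commutator P ≤ zpowers ⁅A, B⁆ := by
  set d := ⁅A, B⁆ with hd
  set D := zpowers d
  have cen : ∀ w ∈ Z, ∀ g : P, g * w = w * g := fun w hw g => mem_center_iff.1 (hZ hw) g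
  have hDn : D.Normal := by
    rw [← normalizer_eq_top_iff, eq_top_iff, ← hgen, closure_le]
    have key : ∀ g : P, g * d * g⁻¹ ∈ D → g⁻¹ * d * g ∈ D → g ∈ normalizer (D : Set P) := by
      intro g h1 h2
      rw [mem_normalizer_iff]
      intro h
      constructor
      · rintro ⟨i, rfl⟩
        simp only [← conj_zpow]
        exact zpow_mem h1 i
      · rintro ⟨i, hi⟩
        have : h = (g⁻¹ * d * g) ^ i := by
          have e := conj_zpow (i := i) (a := g⁻¹) (b := d)
          rw [inv_inv] at e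
          simp only at hi
          rw [e, hi]; group
        rw [this]
        exact zpow_mem h2 i
    rintro x ((rfl | rfl) | hx)
    · obtain ⟨i, hi, h2⟩ := hA
      exact key _ (hi ▸ zpow_mem (mem_zpowers d) i) h2
    · exact key _ hB.1 hB.2
    · refine key x ?_ ?_
      · rw [← cen x hx d, mul_inv_cancel_right]; exact mem_zpowers d
      · rw [mul_assoc, cen x hx d, inv_mul_cancel_left]; exact mem_zpowers d
  let q := QuotientGroup.mk' D
  have hAB : Commute (q A) (q B) := by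
    rw [← commutatorElement_eq_one_iff_commute, ← map_commutatorElement,
      QuotientGroup.mk'_apply, QuotientGroup.eq_one_iff]
    exact mem_zpowers d
  have hz : ∀ w ∈ Z, ∀ g, Commute (q g) (q w) := fun w hw g =>
    (show Commute g w from cen w hw g).map q
  have hall : ∀ x y : P, Commute (q x) (q y) := by
    have h1 : ∀ g ∈ ({A, B} ∪ (Z : Set P) : Set P), ∀ x : P, Commute (q g) (q x) := by
      intro g hg x
      have : x ∈ closure ({A, B} ∪ (Z : Set P)) := by rw [hgen]; trivial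
      induction this using closure_induction with
      | mem y hy =>
        rcases hg with (rfl | rfl) | hg <;> rcases hy with (rfl | rfl) | hy <;>
          first
            | exact Commute.refl _
            | exact hAB
            | exact hAB.symm
            | exact hz _ hy _
            | exact (hz _ hg _).symm
      | one => rw [map_one]; exact Commute.one_right _
      | mul y w _ _ ih1 ih2 => rw [map_mul]; exact ih1.mul_right ih2
      | inv y _ ih => rw [map_inv]; exact ih.inv_right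
    intro x y
    have : x ∈ closure ({A, B} ∪ (Z : Set P)) := by rw [hgen]; trivial
    induction this using closure_induction with
    | mem g hg => exact h1 g hg y
    | one => rw [map_one]; exact Commute.one_left _
    | mul g w _ _ ih1 ih2 => rw [map_mul]; exact ih1.mul_left ih2
    | inv g _ ih => rw [map_inv]; exact ih.inv_left
  rw [_root_.commutator_def, commutator_le]
  intro x _ y _
  rw [← QuotientGroup.eq_one_iff, ← QuotientGroup.mk'_apply, map_commutatorElement,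
    commutatorElement_eq_one_iff_commute]
  exact hall x y

theorem closure_lifts {P : Type u} {Q : Type v} [Group P] [Group Q] (π : P →* Q) {A B : P}
    (hgen : closure {π A, π B} = ⊤) : closure ({A, B} ∪ (π.ker : Set P)) = ⊤ := by
  rw [eq_top_iff]
  intro x _
  have hsub : closure {π A, π B} ≤ (closure ({A, B} ∪ (π.ker : Set P))).map π := by
    rw [closure_le, Set.insert_subset_iff, Set.singleton_subset_iff]
    exact ⟨mem_map_of_mem π (subset_closure (by simp)), mem_map_of_mem π (subset_closure (by simp))⟩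
  obtain ⟨y, hy, hyx⟩ := hsub (by rw [hgen]; exact mem_top (π x))
  have : y⁻¹ * x ∈ closure ({A, B} ∪ (π.ker : Set P)) :=
    subset_closure (Or.inr (by simp [hyx]))
  simpa using mul_mem hy this

/-- `Q` leaves at most a cyclic part of exponent `n` -/
def CyclicPartAt (n : ℕ) (Q : Type v) [Group Q] : Prop :=
  ∀ (P : Type u) [Group P] [Finite P] (π : P →* Q), Function.Surjective π → π.ker ≤ center P →
    ∃ e ∈ π.ker, e ^ n = 1 ∧ ∀ z ∈ π.ker, z ∈ commutator P → z ∈ zpowers e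

/-- a dihedral group of order eight leaves at most an involution -/
theorem cyclicPartAt_dihedral {Q : Type v} [Group Q] (a b : Q) (ha : orderOf a = 4)
    (hba : b * a * b⁻¹ = a⁻¹) (hgen : closure {a, b} = ⊤) : CyclicPartAt.{u, v} 2 Q := by
  intro P _ _ π hs hk
  obtain ⟨A, rfl⟩ := hs a
  obtain ⟨B, rfl⟩ := hs b
  have cen : ∀ {w : P}, π w = 1 → ∀ g : P, Commute g w := fun hw g =>
    mem_center_iff.1 (hk (MonoidHom.mem_ker.2 hw)) g
  set d := ⁅A, B⁆ with hd
  set z0 := A * (B * A * B⁻¹) with hz0d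
  have hz0 : π z0 = 1 := by
    rw [hz0d, map_mul, map_mul, map_mul, map_inv, hba, mul_inv_cancel]
  have hz0c : ∀ g : P, Commute g z0 := cen hz0
  have e1 : B * A * B⁻¹ = A⁻¹ * z0 := by rw [hz0d]; group
  have hd2 : d = A * A * z0⁻¹ := by
    have : d = A * (B * A * B⁻¹)⁻¹ := by rw [hd, commutatorElement_def]; group
    rw [this, e1, mul_inv_rev, inv_inv, ← (hz0c A).inv_right.eq, mul_assoc]
  have hAd : Commute A d := by
    rw [hd2]; exact ((Commute.refl A).mul_right (Commute.refl A)).mul_right (hz0c A).inv_right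
  have hBd : B * d * B⁻¹ = d⁻¹ := by
    have h1 : B * d * B⁻¹ = (B * A * B⁻¹) * (B * A * B⁻¹) * (B * z0⁻¹ * B⁻¹) := by rw [hd2]; group
    rw [h1, e1, ((hz0c B).inv_right).eq, mul_assoc (z0⁻¹), mul_inv_cancel, mul_one, hd2]
    have c := hz0c A⁻¹
    calc A⁻¹ * z0 * (A⁻¹ * z0) * z0⁻¹ = A⁻¹ * z0 * A⁻¹ := by group
      _ = A⁻¹ * A⁻¹ * z0 := by rw [mul_assoc, ← c.eq, ← mul_assoc]
      _ = (A * A * z0⁻¹)⁻¹ := by
        clear_value z0 d
        rw [mul_inv_rev, inv_inv, mul_inv_rev]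
        exact ((c.mul_left c)).eq
  have hcomm : commutator P ≤ zpowers d := by
    refine commutator_le_zpowers hk (closure_lifts π hgen) ⟨1, ?_, ?_⟩ ⟨?_, ?_⟩
    · rw [zpow_one, hAd.eq, mul_inv_cancel_right]
    · rw [mul_assoc, ← hAd.eq, inv_mul_cancel_left]; exact mem_zpowers d
    · rw [hBd]; exact inv_mem (mem_zpowers d)
    · have h' : B * d⁻¹ * B⁻¹ = d := by rw [← conj_inv, hBd, inv_inv]
      have : B⁻¹ * d * B = d⁻¹ := by
        conv_lhs => rw [← h']
        group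
      rw [this]; exact inv_mem (mem_zpowers d)
  have hA4 : π (A ^ 4) = 1 := by rw [map_pow, ← ha, pow_orderOf_eq_one]
  have hd4 : d ^ 4 = 1 := by
    have h1 : (A⁻¹ * z0) ^ 4 = A ^ 4 := by
      rw [← e1, conj_pow, (cen hA4 B).eq, mul_inv_cancel_right]
    rw [(hz0c A⁻¹).mul_pow, inv_pow] at h1
    rw [hd2, (((hz0c A).mul_left (hz0c A)).inv_right).mul_pow, (Commute.refl A).mul_pow, inv_pow]
    have : z0 ^ 4 = A ^ 4 * A ^ 4 := inv_mul_eq_iff_eq_mul.1 h1
    rw [← this, mul_inv_cancel]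
  have hpd : π d = π A ^ 2 := by
    rw [hd2, map_mul, map_mul, map_inv, hz0, inv_one, mul_one, sq]
  refine ⟨d ^ 2, ?_, by rw [← pow_mul]; exact hd4, fun z hz hzc => ?_⟩
  · rw [MonoidHom.mem_ker, map_pow, hpd, ← pow_mul]
    exact orderOf_dvd_iff_pow_eq_one.1 ha.dvd
  obtain ⟨i, rfl⟩ := hcomm hzc
  have hzk : π d ^ i = 1 := by
    have := MonoidHom.mem_ker.1 hz
    simpa only [map_zpow] using this
  rw [hpd, ← zpow_natCast, ← zpow_mul, ← orderOf_dvd_iff_zpow_eq_one, ha] at hzk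
  obtain ⟨c, hc⟩ := hzk
  refine mem_zpowers_iff.2 ⟨c, ?_⟩
  rw [← zpow_natCast, ← zpow_mul]
  show d ^ _ = d ^ i
  congr 1
  push_cast at hc ⊢
  omega

/-- a commuting pair of generators of exponent `n` leaves at most a cyclic part of exponent `n` -/
theorem cyclicPartAt_abelian {Q : Type v} [Group Q] (r s : Q) (n : ℕ) (hrs : r * s = s * r)
    (hs : s ^ n = 1) (hgen : closure {r, s} = ⊤) : CyclicPartAt.{u, v} n Q := by
  intro P _ _ π hπ hk
  obtain ⟨A, rfl⟩ := hπ r
  obtain ⟨B, rfl⟩ := hπ s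
  have cen : ∀ {w : P}, π w = 1 → ∀ g : P, Commute g w := fun hw g =>
    mem_center_iff.1 (hk (MonoidHom.mem_ker.2 hw)) g
  set d := ⁅A, B⁆ with hd
  have hd1 : π d = 1 := by
    rw [hd, map_commutatorElement, commutatorElement_eq_one_iff_mul_comm, hrs]
  have hdc : ∀ g : P, Commute g d := cen hd1
  have hfix : ∀ g : P, g * d * g⁻¹ = d ∧ g⁻¹ * d * g = d := fun g =>
    ⟨by rw [(hdc g).eq, mul_inv_cancel_right], by rw [mul_assoc, ← (hdc g).eq, inv_mul_cancel_left]⟩
  refine ⟨d, hd1, ?_, fun z _ hz => ?_⟩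
  · have h1 : (A * B * A⁻¹) ^ n = B ^ n := by
      rw [conj_pow, (cen (w := B ^ n) (by rw [map_pow, hs]) A).eq, mul_inv_cancel_right]
    have h2 : A * B * A⁻¹ = d * B := by rw [hd, commutatorElement_def]; group
    rw [h2, (hdc B).symm.mul_pow] at h1
    exact mul_eq_right.1 h1
  · refine commutator_le_zpowers hk (closure_lifts π hgen) ⟨1, by rw [zpow_one, (hfix A).1],
      by rw [(hfix A).2]; exact mem_zpowers d⟩ ⟨?_, ?_⟩ hz
    · rw [(hfix B).1]; exact mem_zpowers d
    · rw [(hfix B).2]; exact mem_zpowers d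

/-- the `p`-part of a stem kernel through a subgroup of index prime to `p` -/
theorem exists_part [Finite Γ] {σ : Γ →* G} (hσ : IsStemExtension σ) {p n : ℕ} (Q : Subgroup G)
    (hQ : p.Coprime Q.index) (hP : CyclicPartAt.{u, u} n ↥Q) :
    ∃ e ∈ σ.ker, e ^ n = 1 ∧ ∀ z ∈ σ.ker, ∀ k : ℕ, z ^ p ^ k = 1 → z ∈ zpowers e := by
  let π : ↥(Q.comap σ) →* ↥Q := σ.subgroupComap Q
  have hπs : Function.Surjective π := MonoidHom.subgroupComap_surjective_of_surjective σ Q hσ.1
  have hπk : π.ker ≤ center ↥(Q.comap σ) := by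
    intro x hx
    have hx' : (x : Γ) ∈ σ.ker := congrArg Subtype.val (MonoidHom.mem_ker.1 hx)
    exact mem_center_iff.2 fun g => Subtype.ext (mem_center_iff.1 (hσ.2.1 hx') g)
  obtain ⟨e, he, hen, hall⟩ := hP _ π hπs hπk
  refine ⟨e, congrArg Subtype.val (MonoidHom.mem_ker.1 he), ?_, fun z hz k hzk => ?_⟩
  · exact congrArg Subtype.val hen
  obtain ⟨hzQ, hc⟩ := mem_commutator_comap hσ Q (hQ.pow_left k) z hz hzk
  obtain ⟨i, hi⟩ := mem_zpowers_iff.1 (hall ⟨z, hzQ⟩ (MonoidHom.mem_ker.2 (Subtype.ext hz)) hc)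
  exact mem_zpowers_iff.2 ⟨i, by simpa using congrArg Subtype.val hi⟩

/-- a rigid Sylow subgroup kills all of the `p`-part -/
theorem eq_one_of_rigid_pow {Γ G : Type u} [Group Γ] [Group G] [Finite Γ] {σ : Γ →* G}
    (hσ : IsStemExtension σ) {p : ℕ} (Q : Subgroup G) (hQ : p.Coprime Q.index) (hR : RigidAt p ↥Q)
    (z : Γ) (hz : z ∈ σ.ker) : ∀ k : ℕ, z ^ p ^ k = 1 → z = 1 := by
  intro k
  induction k generalizing z with
  | zero => intro h; simpa using h
  | succ k ih =>
    intro h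
    rw [pow_succ, mul_comm, pow_mul] at h
    have := ih _ (pow_mem hz p) (by rw [← pow_mul, mul_comm, pow_mul]; rwa [← pow_mul, mul_comm, pow_mul])
    exact eq_one_of_rigidAt hσ Q hQ hR z hz this

/-- no kernel element of prime order `p` when `p ^ 2` does not divide the order -/
theorem eq_one_of_sq_not_dvd {Γ G : Type u} [Group Γ] [Group G] [Finite Γ] [Finite G] {σ : Γ →* G}
    (hσ : IsStemExtension σ) {p : ℕ} (hp : p.Prime) (h2 : ¬ p ^ 2 ∣ Nat.card G)
    (z : Γ) (hz : z ∈ σ.ker) (hzp : z ^ p = 1) : z = 1 := by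
  have := Fact.mk hp
  obtain ⟨P⟩ : Nonempty (Sylow p G) := inferInstance
  have hle : (Nat.card G).factorization p ≤ 1 := by
    by_contra h
    exact h2 ((pow_dvd_pow p (by omega)).trans (Nat.ordProj_dvd _ p))
  have : IsCyclic ↥(P : Subgroup G) := by
    have hc := P.card_eq_multiplicity
    rcases Nat.le_one_iff_eq_zero_or_eq_one.1 hle with h | h <;> rw [h] at hc
    · have : Subsingleton ↥(P : Subgroup G) := (Nat.card_eq_one_iff_unique.1 (by simpa using hc)).1
      infer_instance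
    · exact isCyclic_of_prime_card (p := p) (hc.trans (pow_one p))
  exact eq_one_of_rigidAt hσ (P : Subgroup G) ((Nat.Prime.coprime_iff_not_dvd hp).2 P.not_dvd_index)
    (rigidAt_of_isCyclic p _) z hz hzp

/-- assembly of the two parts -/
theorem exists_surjective_of_parts [Finite Γ] {σ : Γ →* G} (hσ : IsStemExtension σ) {n₂ n₃ : ℕ}
    (hco : n₂.Coprime n₃)
    (h2 : ∃ e ∈ σ.ker, e ^ n₂ = 1 ∧ ∀ z ∈ σ.ker, ∀ k : ℕ, z ^ 2 ^ k = 1 → z ∈ zpowers e)
    (h3 : ∃ e ∈ σ.ker, e ^ n₃ = 1 ∧ ∀ z ∈ σ.ker, ∀ k : ℕ, z ^ 3 ^ k = 1 → z ∈ zpowers e)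
    (hoth : ∀ p : ℕ, p.Prime → p ≠ 2 → p ≠ 3 → ∀ z ∈ σ.ker, z ^ p = 1 → z = 1) :
    ∃ f : Multiplicative (ZMod (n₂ * n₃)) →* σ.ker, Function.Surjective f := by
  obtain ⟨e2, he2, hn2, h2⟩ := h2
  obtain ⟨e3, he3, hn3, h3⟩ := h3
  have hc : Commute e2 e3 := mem_center_iff.1 (hσ.2.1 he3) e2
  set c : σ.ker := ⟨e2 * e3, mul_mem he2 he3⟩ with hcdef
  have hcn : c ^ (n₂ * n₃) = 1 := by
    refine Subtype.ext ?_
    rw [SubgroupClass.coe_pow, hcdef, hc.mul_pow, pow_mul, hn2, one_pow, mul_comm n₂, pow_mul, hn3,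
      one_pow, one_mul, OneMemClass.coe_one]
  -- both parts are powers of the product
  have hparts : e2 ∈ zpowers (e2 * e3) ∧ e3 ∈ zpowers (e2 * e3) := by
    have hbez := Nat.gcd_eq_gcd_ab n₂ n₃
    rw [hco.gcd_eq_one] at hbez
    set x := Nat.gcdA n₂ n₃
    set y := Nat.gcdB n₂ n₃
    push_cast at hbez
    constructor
    · refine mem_zpowers_iff.2 ⟨n₃ * y, ?_⟩
      rw [hc.mul_zpow, zpow_mul e3, zpow_natCast, hn3, one_zpow, mul_one,
        show (n₃ : ℤ) * y = 1 + n₂ * (-x) by linarith, zpow_add, zpow_one, zpow_mul, zpow_natCast,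
        hn2, one_zpow, mul_one]
    · refine mem_zpowers_iff.2 ⟨n₂ * x, ?_⟩
      rw [hc.mul_zpow, zpow_mul e2, zpow_natCast, hn2, one_zpow, one_mul,
        show (n₂ : ℤ) * x = 1 + n₃ * (-y) by linarith, zpow_add, zpow_one, zpow_mul, zpow_natCast,
        hn3, one_zpow, mul_one]
  refine Cfsg.Agent.H74.Schur.exists_surjective_zmod c (fun z => ?_) hcn
  -- split the order of the kernel
  set N := Nat.card σ.ker with hN
  have hN0 : N ≠ 0 := Nat.card_pos.ne'
  obtain ⟨a, u, hu, hNu⟩ := Nat.exists_eq_pow_mul_and_not_dvd hN0 2 (by norm_num)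
  have hu0 : u ≠ 0 := by rintro rfl; exact hN0 (by rw [hNu, mul_zero])
  obtain ⟨b, w, hw, huw⟩ := Nat.exists_eq_pow_mul_and_not_dvd hu0 3 (by norm_num)
  have hw1 : w = 1 := by
    by_contra hne
    obtain ⟨p, hp, hpw⟩ := Nat.exists_prime_and_dvd hne
    have := Fact.mk hp
    have hpu : p ∣ u := huw ▸ hpw.mul_left _
    have hpN : p ∣ N := hNu ▸ hpu.mul_left _
    obtain ⟨g, hg⟩ := exists_prime_orderOf_dvd_card' p hpN
    have h1 : (g : Γ) ^ p = 1 := by rw [← SubgroupClass.coe_pow, ← hg, pow_orderOf_eq_one]; rfl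
    have := hoth p hp (fun e => hu (e ▸ hpu)) (fun e => hw (e ▸ hpw)) g g.2 h1
    have hg1 : g = 1 := Subtype.ext this
    rw [hg1, orderOf_one] at hg
    exact hp.one_lt.ne hg
  rw [hw1, mul_one] at huw
  have hzN : (z : Γ) ^ N = 1 := by
    rw [← SubgroupClass.coe_pow, hN, pow_card_eq_one']; rfl
  have key : (z : Γ) ∈ zpowers (e2 * e3) := by
    have hbez := Nat.gcd_eq_gcd_ab (2 ^ a) u
    rw [(Nat.Coprime.pow_left a ((Nat.Prime.coprime_iff_not_dvd Nat.prime_two).2 hu)).gcd_eq_one] at hbez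
    have hA : (z : Γ) ^ u ∈ zpowers (e2 * e3) := by
      refine zpowers_le.2 hparts.1 (h2 _ (pow_mem z.2 u) a ?_)
      rw [← pow_mul, mul_comm, ← hNu, hzN]
    have hB : (z : Γ) ^ 2 ^ a ∈ zpowers (e2 * e3) := by
      refine zpowers_le.2 hparts.2 (h3 _ (pow_mem z.2 _) b ?_)
      rw [← pow_mul, ← huw, ← hNu, hzN]
    have : (z : Γ) = ((z : Γ) ^ 2 ^ a) ^ Nat.gcdA (2 ^ a) u * ((z : Γ) ^ u) ^ Nat.gcdB (2 ^ a) u := by
      rw [← zpow_natCast (z : Γ) (2 ^ a), ← zpow_natCast (z : Γ) u, ← zpow_mul, ← zpow_mul, ← zpow_add,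
        ← hbez, Nat.cast_one, zpow_one]
    rw [this]
    exact mul_mem (zpow_mem hB _) (zpow_mem hA _)
  obtain ⟨i, hi⟩ := mem_zpowers_iff.1 key
  exact mem_zpowers_iff.2 ⟨i, Subtype.ext (by rw [SubgroupClass.coe_zpow, hcdef]; exact hi)⟩

end Cfsg.Agent.H50
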