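/-
Fibre products of central extensions: restriction of a stem extension along a homomorphism with a
commutator witness, and combination of stem extensions with kernels of coprime order.
-/
import Cfsg.Prelude.Def_KGroupFacts
import Mathlib

set_option autoImplicit false

namespace Cfsg.Agent.H50

open Subgroup
open scoped commutatorElement

universe u v w

section

variable {Γ : Type u} {R : Type v} {Q : Type w} [Group Γ] [Group R] [Group Q]

/-- the fibre product of `σ` and `f` -/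
def pull (σ : Γ →* Q) (f : R →* Q) : Subgroup (Γ × R) :=
  (σ.comp (MonoidHom.fst Γ R)).eqLocus (f.comp (MonoidHom.snd Γ R))

theorem mem_pull {σ : Γ →* Q} {f : R →* Q} {a : Γ × R} : a ∈ pull σ f ↔ σ a.1 = f a.2 := Iff.rfl

/-- the projection of the fibre product -/
def pullSnd (σ : Γ →* Q) (f : R →* Q) : pull σ f →* R :=
  (MonoidHom.snd Γ R).comp (pull σ f).subtype

variable {σ : Γ →* Q} {f : R →* Q}

theorem pullSnd_surjective (hσ : Function.Surjective σ) : Function.Surjective (pullSnd σ f) :=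
  fun r => ⟨⟨((hσ (f r)).choose, r), (hσ (f r)).choose_spec⟩, rfl⟩

theorem pullSnd_ker_le_center (hc : σ.ker ≤ center Γ) : (pullSnd σ f).ker ≤ center (pull σ f) := by
  intro a ha
  have h2 : a.1.2 = 1 := ha
  have h1 : σ a.1.1 = 1 := by rw [mem_pull.1 a.2, h2, map_one]
  rw [mem_center_iff]
  intro b
  refine Subtype.ext (Prod.ext (mem_center_iff.1 (hc h1) b.1.1) ?_)
  show b.1.2 * a.1.2 = a.1.2 * b.1.2
  rw [h2, mul_one, one_mul]

/-- the kernel of the projection is the kernel of `σ` -/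
def pullKer (σ : Γ →* Q) (f : R →* Q) : (pullSnd σ f).ker ≃* σ.ker where
  toFun a := ⟨a.1.1.1, by
    rw [MonoidHom.mem_ker, mem_pull.1 a.1.2, show a.1.1.2 = 1 from a.2, map_one]⟩
  invFun k := ⟨⟨(k.1, 1), by rw [mem_pull, k.2, map_one]⟩, rfl⟩
  left_inv a := Subtype.ext (Subtype.ext (Prod.ext rfl (show (1 : R) = a.1.1.2 from a.2.symm)))
  right_inv k := rfl
  map_mul' a b := rfl

/-- a commutator of two lifts generating the kernel makes the projection a stem extension -/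
theorem isStemExtension_pullSnd (hσ : Function.Surjective σ) (hc : σ.ker ≤ center Γ)
    {x y : Γ} {r s : R} (hx : σ x = f r) (hy : σ y = f s) (hrs : r * s = s * r)
    (hgen : σ.ker ≤ zpowers ⁅x, y⁆) : IsStemExtension (pullSnd σ f) := by
  refine ⟨pullSnd_surjective hσ, pullSnd_ker_le_center hc, ?_⟩
  intro a ha
  have h2 : a.1.2 = 1 := ha
  have h1 : σ a.1.1 = 1 := by rw [mem_pull.1 a.2, h2, map_one]
  obtain ⟨i, hi⟩ := mem_zpowers_iff.1 (hgen h1)
  let X : pull σ f := ⟨(x, r), hx⟩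
  let Y : pull σ f := ⟨(y, s), hy⟩
  have e : a = ⁅X, Y⁆ ^ i := by
    refine Subtype.ext (Prod.ext ?_ ?_)
    · simp [X, Y, ← hi, commutatorElement_def]
    · simp [X, Y, h2, commutatorElement_def, hrs]
  rw [e, _root_.commutator_def]
  exact zpow_mem (commutator_mem_commutator (mem_top X) (mem_top Y)) i

end

/-- stem extensions with kernels of coprime order combine -/
theorem exists_stem_coprime {Γ₁ Γ₂ Q : Type u} [Group Γ₁] [Group Γ₂] [Group Q] [Finite Γ₁]
    [Finite Γ₂] {σ₁ : Γ₁ →* Q} {σ₂ : Γ₂ →* Q} (h₁ : IsStemExtension σ₁) (h₂ : IsStemExtension σ₂)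
    (hco : Nat.Coprime (Nat.card σ₁.ker) (Nat.card σ₂.ker)) (hc₁ : IsCyclic σ₁.ker)
    (hc₂ : IsCyclic σ₂.ker) :
    ∃ (P : Type u) (_ : Group P) (_ : Finite P) (σ : P →* Q), IsStemExtension σ ∧
      IsCyclic σ.ker ∧ Nat.card σ.ker = Nat.card σ₁.ker * Nat.card σ₂.ker := by
  let σ : pull σ₂ σ₁ →* Q := σ₁.comp (pullSnd σ₂ σ₁)
  have hpair : ∀ a : pull σ₂ σ₁, a ∈ σ.ker ↔ a.1.1 ∈ σ₂.ker ∧ a.1.2 ∈ σ₁.ker := fun a => by
    simp only [MonoidHom.mem_ker]
    exact ⟨fun h => ⟨(mem_pull.1 a.2).trans h, h⟩, fun h => h.2⟩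
  let e : σ.ker ≃* σ₂.ker × σ₁.ker :=
    { toFun := fun a => (⟨a.1.1.1, ((hpair a.1).1 a.2).1⟩, ⟨a.1.1.2, ((hpair a.1).1 a.2).2⟩)
      invFun := fun k => ⟨⟨(k.1.1, k.2.1), by
        rw [mem_pull, MonoidHom.mem_ker.1 k.1.2, MonoidHom.mem_ker.1 k.2.2]⟩, (hpair _).2 ⟨k.1.2, k.2.2⟩⟩
      left_inv := fun a => rfl
      right_inv := fun k => rfl
      map_mul' := fun a b => rfl }
  have hsurj : Function.Surjective σ := h₁.1.comp (pullSnd_surjective h₂.1)
  have hfst : Function.Surjective ((MonoidHom.fst Γ₂ Γ₁).comp (pull σ₂ σ₁).subtype) := fun g =>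
    ⟨⟨(g, (h₁.1 (σ₂ g)).choose), ((h₁.1 (σ₂ g)).choose_spec).symm⟩, rfl⟩
  have key : ∀ (A : Type u) [Group A] (π : pull σ₂ σ₁ →* A), Function.Surjective π →
      (commutator (pull σ₂ σ₁)).map π = commutator A := by
    intro A _ π hπ
    rw [_root_.commutator_def, map_commutator, map_top_of_surjective π hπ, ← _root_.commutator_def]
  refine ⟨pull σ₂ σ₁, inferInstance, inferInstance, σ, ⟨hsurj, ?_, ?_⟩, ?_, ?_⟩
  · intro a ha
    rw [mem_center_iff]
    intro b
    exact Subtype.ext (Prod.ext (mem_center_iff.1 (h₂.2.1 ((hpair a).1 ha).1) b.1.1)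
      (mem_center_iff.1 (h₁.2.1 ((hpair a).1 ha).2) b.1.2))
  · -- the intersection with the commutator subgroup has order divisible by both orders
    let C := (commutator (pull σ₂ σ₁)).subgroupOf σ.ker
    suffices C = ⊤ by rwa [subgroupOf_eq_top] at this
    apply eq_top_of_card_eq
    refine Nat.dvd_antisymm (card_subgroup_dvd_card C) ?_
    rw [Nat.card_congr e.toEquiv, Nat.card_prod, mul_comm]
    refine hco.mul_dvd_of_dvd_of_dvd ?_ ?_
    · -- first kernel
      let π₁ : C →* σ₁.ker := ((MonoidHom.snd σ₂.ker σ₁.ker).comp e.toMonoidHom).comp C.subtype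
      refine card_dvd_of_surjective π₁ fun k => ?_
      obtain ⟨a, ha, hak⟩ : (k : Γ₁) ∈ (commutator (pull σ₂ σ₁)).map (pullSnd σ₂ σ₁) :=
        (key _ _ (pullSnd_surjective h₂.1)).symm ▸ h₁.2.2 k.2
      have hak' : a.1.2 = k.1 := hak
      have : a ∈ σ.ker := by
        rw [MonoidHom.mem_ker]; show σ₁ a.1.2 = 1
        rw [hak']; exact k.2
      exact ⟨⟨⟨a, this⟩, ha⟩, Subtype.ext hak'⟩
    · let π₂ : C →* σ₂.ker := ((MonoidHom.fst σ₂.ker σ₁.ker).comp e.toMonoidHom).comp C.subtype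
      refine card_dvd_of_surjective π₂ fun k => ?_
      obtain ⟨a, ha, hak⟩ : (k : Γ₂) ∈ (commutator (pull σ₂ σ₁)).map
          ((MonoidHom.fst Γ₂ Γ₁).comp (pull σ₂ σ₁).subtype) :=
        (key _ _ hfst).symm ▸ h₂.2.2 k.2
      have hak' : a.1.1 = k.1 := hak
      have : a ∈ σ.ker := by
        rw [MonoidHom.mem_ker]; show σ₁ a.1.2 = 1
        rw [← mem_pull.1 a.2, hak']; exact k.2
      exact ⟨⟨⟨a, this⟩, ha⟩, Subtype.ext hak'⟩
  · have := hc₁
    have := hc₂
    have : IsCyclic (σ₂.ker × σ₁.ker) := Group.isCyclic_prod_iff.2 ⟨hc₂, hc₁, hco.symm⟩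
    exact isCyclic_of_surjective e.symm.toMonoidHom e.symm.surjective
  · rw [Nat.card_congr e.toEquiv, Nat.card_prod, mul_comm]

end Cfsg.Agent.H50
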