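/-
A central extension of the alternating group of degree seven with kernel of order three generated
by the commutator of lifts of two disjoint 3-cycles.
-/
import Cfsg.Agent.H50.TripleA7Data
import Cfsg.Agent.Compute.Search
import Cfsg.Agent.Compute.PermRep

set_option autoImplicit false
set_option maxRecDepth 100000

namespace Cfsg.Agent.H50.TripleA7

open Cfsg.Agent.Compute
open scoped commutatorElement

/-- pairs of permutations -/
noncomputable def bigSound : Sound (G := Equiv.Perm (Fin 45) × Equiv.Perm (Fin 7))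
    (prodOps (permOps 6 45) (permOps 3 7)) :=
  Sound.prod (permSound 6 45 (by norm_num)) (permSound 3 7 (by norm_num))

/-- permutations of seven points -/
noncomputable def smallSound : Sound (G := Equiv.Perm (Fin 7)) (permOps 3 7) :=
  permSound 3 7 (by norm_num)

theorem big_ok : checkChain (prodOps (permOps 6 45) (permOps 3 7)) bigChain = true := by
  decide +kernel

theorem small_ok : checkChain (permOps 3 7) smallChain = true := by decide +kernel

theorem orders : order bigChain = 7560 ∧ order smallChain = 2520 := by decide +kernel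

theorem gens_eq : (nextGens bigChain).map (fun g => g.1.2) = (nextGens smallChain).map (fun g => g.1) := by
  decide +kernel

/-- the commutator of the two lifts -/
noncomputable def comm : ℕ × ℕ :=
  (prodOps (permOps 6 45) (permOps 3 7)).mul
    ((prodOps (permOps 6 45) (permOps 3 7)).mul liftX.1 liftY.1)
    ((prodOps (permOps 6 45) (permOps 3 7)).mul liftX.2 liftY.2)

/-- facts about the two lifts and their commutator -/
noncomputable def witnessOK : Bool :=
  let o := prodOps (permOps 6 45) (permOps 3 7)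
  o.okInv liftX.1 liftX.2 && o.okInv liftY.1 liftY.2 && sift o bigChain liftX.1 &&
    sift o bigChain liftY.1 && !(o.eqv comm o.one) && Nat.beq comm.2 (permOps 3 7).one &&
    lall (nextGens bigChain) fun g => o.eqv (o.mul comm g.1) (o.mul g.1 comm)

theorem witness_ok : witnessOK = true := by decide +kernel

theorem den_cycles :
    permDen 3 7 liftX.1.2 = Equiv.swap (0 : Fin 7) 1 * Equiv.swap 1 2 ∧
    permDen 3 7 liftY.1.2 = Equiv.swap (3 : Fin 7) 4 * Equiv.swap 4 5 := by
  have h := witness_ok
  simp only [witnessOK, Bool.and_eq_true] at h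
  have hx := (bigSound.okInv_sound h.1.1.1.1.1.1).1.2
  have hy := (bigSound.okInv_sound h.1.1.1.1.1.2).1.2
  have key : ∀ i : Fin 7, getP 3 liftX.1.2 i = (((Equiv.swap (0 : Fin 7) 1 * Equiv.swap 1 2 : Equiv.Perm (Fin 7)) i : Fin 7) : ℕ) ∧
      getP 3 liftY.1.2 i = (((Equiv.swap (3 : Fin 7) 4 * Equiv.swap 4 5 : Equiv.Perm (Fin 7)) i : Fin 7) : ℕ) := by
    decide +kernel
  exact ⟨Equiv.ext fun i => Fin.ext ((permDen_apply hx i).trans (key i).1),
    Equiv.ext fun i => Fin.ext ((permDen_apply hy i).trans (key i).2)⟩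

/-- the triple cover -/
noncomputable def grp : Subgroup (Equiv.Perm (Fin 45) × Equiv.Perm (Fin 7)) := bigSound.grp bigChain

/-- its map to permutations of seven points -/
noncomputable def toPerm : grp →* Equiv.Perm (Fin 7) :=
  (MonoidHom.snd _ _).comp grp.subtype

theorem card_grp : Nat.card grp = 7560 := by
  rw [grp, (checkChain_sound bigSound big_ok).card, orders.1]

theorem range_toPerm : toPerm.range = alternatingGroup (Fin 7) := by
  have h : toPerm.range = smallSound.grp smallChain := by
    rw [toPerm, MonoidHom.range_comp, Subgroup.range_subtype, grp, Sound.grp, Sound.grp,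
      MonoidHom.map_closure, ← Set.image_comp]
    congr 1
    ext σ
    simp only [Set.mem_image, Set.mem_ofPred_eq, Function.comp_apply]
    constructor
    · rintro ⟨a, ⟨g, hg, rfl⟩, rfl⟩
      have : g.1.2 ∈ (nextGens smallChain).map (fun g => g.1) := gens_eq ▸ List.mem_map.2 ⟨g, hg, rfl⟩
      obtain ⟨k, hk, e⟩ := List.mem_map.1 this
      exact ⟨g.1.2, ⟨k, hk, e⟩, rfl⟩
    · rintro ⟨a, ⟨k, hk, rfl⟩, rfl⟩
      have : k.1 ∈ (nextGens bigChain).map (fun g => g.1.2) := by
        rw [gens_eq]; exact List.mem_map.2 ⟨k, hk, rfl⟩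
      obtain ⟨g, hg, e⟩ := List.mem_map.1 this
      exact ⟨g.1, ⟨g, hg, rfl⟩, by rw [← e]; rfl⟩
  rw [h]
  apply Equiv.Perm.eq_alternatingGroup_of_index_eq_two
  have hc := (smallSound.grp smallChain).card_mul_index
  rw [(checkChain_sound smallSound small_ok).card, orders.2, Nat.card_eq_fintype_card,
    Fintype.card_perm, Fintype.card_fin] at hc
  norm_num [Nat.factorial] at hc
  omega

/-- the projection onto the alternating group -/
noncomputable def proj : grp →* alternatingGroup (Fin 7) :=
  toPerm.codRestrict _ fun x => range_toPerm ▸ ⟨x, rfl⟩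

theorem proj_surjective : Function.Surjective proj := fun σ => by
  obtain ⟨x, hx⟩ : (σ : Equiv.Perm (Fin 7)) ∈ toPerm.range := range_toPerm.symm ▸ σ.2
  exact ⟨x, Subtype.ext hx⟩

theorem card_ker : Nat.card proj.ker = 3 := by
  have h := Subgroup.card_mul_index proj.ker
  rw [Subgroup.index_ker, MonoidHom.range_eq_top_of_surjective _ proj_surjective,
    Subgroup.card_top, nat_card_alternatingGroup, Nat.card_fin, card_grp,
    show (7 : ℕ).factorial / 2 = 2520 by rfl] at h
  omega

theorem exists_lifts : ∃ x y : grp,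
    (proj x : Equiv.Perm (Fin 7)) = Equiv.swap 0 1 * Equiv.swap 1 2 ∧
    (proj y : Equiv.Perm (Fin 7)) = Equiv.swap 3 4 * Equiv.swap 4 5 ∧
    proj.ker ≤ Subgroup.center grp ∧ proj.ker ≤ Subgroup.zpowers ⁅x, y⁆ := by
  have h := witness_ok
  simp only [witnessOK, Bool.and_eq_true, lall_iff, Bool.not_eq_true'] at h
  obtain ⟨⟨⟨⟨⟨⟨hx, hy⟩, hsx⟩, hsy⟩, hne⟩, hc2⟩, hcom⟩ := h
  obtain ⟨ox, oxi, exi⟩ := bigSound.okInv_sound hx
  obtain ⟨oy, oyi, eyi⟩ := bigSound.okInv_sound hy
  have M := checkChain_sound bigSound big_ok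
  let x : grp := ⟨bigSound.den liftX.1, (M.sift_iff _ ox).1 hsx⟩
  let y : grp := ⟨bigSound.den liftY.1, (M.sift_iff _ oy).1 hsy⟩
  have oc : bigSound.ok comm :=
    bigSound.ok_mul (bigSound.ok_mul ox oy) (bigSound.ok_mul oxi oyi)
  have ec : bigSound.den comm = ((⁅x, y⁆ : grp) : Equiv.Perm (Fin 45) × Equiv.Perm (Fin 7)) := by
    rw [comm, bigSound.den_mul (bigSound.ok_mul ox oy) (bigSound.ok_mul oxi oyi),
      bigSound.den_mul ox oy, bigSound.den_mul oxi oyi, exi, eyi, commutatorElement_def]
    simp [x, y, mul_assoc]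
  have hne' : ⁅x, y⁆ ≠ 1 := by
    intro e
    rw [Bool.eq_false_iff] at hne
    refine hne ((bigSound.eqv_iff oc bigSound.ok_one).2 ?_)
    rw [bigSound.den_one, ec, e]
    rfl
  have hmem : ⁅x, y⁆ ∈ proj.ker := by
    rw [MonoidHom.mem_ker]
    refine Subtype.ext ?_
    show ((⁅x, y⁆ : grp) : Equiv.Perm (Fin 45) × Equiv.Perm (Fin 7)).2 = 1
    rw [← ec]
    show smallSound.den comm.2 = 1
    rw [Nat.eq_of_beq_eq_true hc2, smallSound.den_one]
  have hker : proj.ker = Subgroup.zpowers ⁅x, y⁆ := by
    have := Fact.mk (show Nat.Prime 3 by norm_num)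
    refine (Subgroup.eq_of_le_of_card_ge (Subgroup.zpowers_le.2 hmem) ?_).symm
    rw [card_ker, Nat.card_zpowers]
    have h3 : orderOf (⟨⁅x, y⁆, hmem⟩ : proj.ker) = 3 := by
      refine orderOf_eq_prime ?_ fun e => hne' (congrArg Subtype.val e)
      rw [← card_ker]; exact pow_card_eq_one'
    rw [← h3, ← Subgroup.orderOf_coe]
  refine ⟨x, y, den_cycles.1, den_cycles.2, ?_, hker.le⟩
  rw [hker, Subgroup.zpowers_le, Subgroup.mem_center_iff]
  intro g
  refine Subtype.ext ?_
  rw [Subgroup.coe_mul, Subgroup.coe_mul, ← ec]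
  refine Subgroup.closure_induction (p := fun v _ => v * bigSound.den comm = bigSound.den comm * v)
    ?_ (by simp) ?_ ?_ g.2
  · rintro _ ⟨a, ⟨k, hk, rfl⟩, rfl⟩
    have ok := M.gens_ok k hk
    rw [← bigSound.den_mul ok oc, ← bigSound.den_mul oc ok]
    exact ((bigSound.eqv_iff (bigSound.ok_mul oc ok) (bigSound.ok_mul ok oc)).1 (hcom k hk)).symm
  · intro a b _ _ ha hb
    exact (Commute.mul_left ha hb)
  · intro a _ ha
    exact (Commute.inv_left ha)

end Cfsg.Agent.H50.TripleA7
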