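/-
Stem extensions of the alternating groups of degree six and seven with kernels of order two, three
and six.
-/
import Cfsg.Agent.H50.StemPullback
import Cfsg.Agent.H50.TripleA7
import Cfsg.Agent.H29.SpinEight

set_option autoImplicit false

namespace Cfsg.Agent.H50.SmallAlt

open Equiv
open scoped commutatorElement

/-- the embedding fixing the last points -/
def embAlt {n m : ℕ} (h : n ≤ m) : alternatingGroup (Fin n) →* alternatingGroup (Fin m) :=
  ((Perm.extendDomainHom (Fin.castLEquiv h)).comp (alternatingGroup (Fin n)).subtype).codRestrict _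
    fun σ => Perm.mem_alternatingGroup.2 (by
      show Perm.sign ((σ : Perm (Fin n)).extendDomain (Fin.castLEquiv h)) = 1
      rw [Perm.sign_extendDomain]; exact Perm.mem_alternatingGroup.1 σ.2)

theorem card_ker_pull {Γ R Q : Type} [Group Γ] [Group R] [Group Q] (σ : Γ →* Q) (f : R →* Q) :
    Nat.card (pullSnd σ f).ker = Nat.card σ.ker :=
  Nat.card_congr (pullKer σ f).toEquiv

/-- disjoint 3-cycles fixing the last point -/
theorem three_facts : ∀ n, (hn : n = 6 ∨ n = 7) → ∃ r s : alternatingGroup (Fin n),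
    r * s = s * r ∧
    (embAlt (show n ≤ 7 by omega) r : Perm (Fin 7)) = swap 0 1 * swap 1 2 ∧
    (embAlt (show n ≤ 7 by omega) s : Perm (Fin 7)) = swap 3 4 * swap 4 5 := by
  rintro n (rfl | rfl) <;>
    exact ⟨⟨swap 0 1 * swap 1 2, Perm.mem_alternatingGroup.2 (by decide +kernel)⟩,
      ⟨swap 3 4 * swap 4 5, Perm.mem_alternatingGroup.2 (by decide +kernel)⟩,
      by decide +kernel, by decide +kernel, by decide +kernel⟩

/-- two commuting double transpositions on the first four points -/
theorem two_facts : ∀ n, (hn : n = 6 ∨ n = 7) → ∃ r s : alternatingGroup (Fin n),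
    r * s = s * r ∧
    (embAlt (show n ≤ 8 by omega) r : Perm (Fin 8)) = swap 0 1 * swap 2 3 ∧
    (embAlt (show n ≤ 8 by omega) s : Perm (Fin 8)) = swap 0 2 * swap 1 3 := by
  rintro n (rfl | rfl) <;>
    exact ⟨⟨swap 0 1 * swap 2 3, Perm.mem_alternatingGroup.2 (by decide +kernel)⟩,
      ⟨swap 0 2 * swap 1 3, Perm.mem_alternatingGroup.2 (by decide +kernel)⟩,
      by decide +kernel, by decide +kernel, by decide +kernel⟩

theorem exists_triple {n : ℕ} (hn : n = 6 ∨ n = 7) :
    ∃ (P : Type) (_ : Group P) (_ : Finite P) (σ : P →* alternatingGroup (Fin n)),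
      Cfsg.IsStemExtension σ ∧ Nat.card σ.ker = 3 := by
  obtain ⟨r, s, hrs, hr, hs⟩ := three_facts n hn
  obtain ⟨x, y, hx, hy, hc, hgen⟩ := TripleA7.exists_lifts
  refine ⟨_, inferInstance, inferInstance, pullSnd TripleA7.proj (embAlt (show n ≤ 7 by omega)),
    isStemExtension_pullSnd TripleA7.proj_surjective hc (x := x) (y := y) (r := r) (s := s)
      (Subtype.ext (hx.trans hr.symm)) (Subtype.ext (hy.trans hs.symm)) hrs hgen, ?_⟩
  rw [card_ker_pull, TripleA7.card_ker]

open H29.SpinEight in
theorem exists_double {n : ℕ} (hn : n = 6 ∨ n = 7) :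
    ∃ (P : Type) (_ : Group P) (_ : Finite P) (σ : P →* alternatingGroup (Fin n)),
      Cfsg.IsStemExtension σ ∧ Nat.card σ.ker = 2 := by
  obtain ⟨r, s, hrs, hr, hs⟩ := two_facts n hn
  let z : spinGroup8 := ⟨_, neg_one_mem⟩
  have hz1 : z ≠ 1 := fun e => neg_one_ne (congrArg (fun p : spinGroup8 => p.1.2) e)
  have hker : ∀ p : spinGroup8, toAlt p = 1 ↔ p = 1 ∨ p = z := by
    intro p
    constructor
    · intro h
      have h1 : p.1.1 = 1 := congrArg Subtype.val h
      rcases pin_ker (M := p.1.2) (h1 ▸ p.2.1) with e | e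
      · exact Or.inl (Subtype.ext (Prod.ext h1 e))
      · exact Or.inr (Subtype.ext (Prod.ext h1 e))
    · rintro (rfl | rfl)
      · exact map_one _
      · exact Subtype.ext rfl
  have hcen : ∀ p : spinGroup8, toAlt p = 1 → p ∈ Subgroup.center spinGroup8 := by
    intro p hp
    rw [Subgroup.mem_center_iff]
    intro q
    rcases (hker p).1 hp with rfl | rfl
    · simp
    · exact Subtype.ext (Prod.ext (by simp [z]) (Units.ext (by simp [z])))
  have hzz : z * z = 1 := Subtype.ext (Prod.ext (by simp [z]) (Units.ext (by simp [z])))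
  let lift : ∀ {a b c d : Fin 8}, a ≠ b → c ≠ d → spinGroup8 := fun h h' => ⟨_, vec_prod_mem h h'⟩
  have hsq : ∀ {a b c d : Fin 8} (hab : a ≠ b) (hcd : c ≠ d), c ≠ a → c ≠ b → d ≠ a → d ≠ b →
      lift hab hcd * lift hab hcd = z := by
    intro a b c d hab hcd hca hcb hda hdb
    refine Subtype.ext (Prod.ext ?_ (Units.ext ?_))
    · show (swap a b * swap c d) * (swap a b * swap c d) = 1
      have hcomm : swap a b * swap c d = swap c d * swap a b := by
        ext q
        simp only [Perm.mul_apply, swap_apply_def]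
        split_ifs <;> simp_all
      calc (swap a b * swap c d) * (swap a b * swap c d)
          = (swap a b * swap c d) * (swap c d * swap a b) := by rw [hcomm]
        _ = 1 := by
          rw [mul_assoc, ← mul_assoc (swap c d), swap_mul_self, one_mul, swap_mul_self]
    · show vec a b * vec c d * (vec a b * vec c d) = -1
      calc vec a b * vec c d * (vec a b * vec c d)
          = vec a b * (vec c d * vec a b) * vec c d := by simp only [Matrix.mul_assoc]
        _ = -1 := by
          rw [vec_vec hcd hca.symm hda.symm hcb.symm hdb.symm, Matrix.mul_neg, Matrix.neg_mul, ← Matrix.mul_assoc,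
            vec_sq hab, Matrix.one_mul, vec_sq hcd]
  let a : spinGroup8 := lift (show (0 : Fin 8) ≠ 1 by decide) (show (2 : Fin 8) ≠ 3 by decide)
  let b : spinGroup8 := lift (show (0 : Fin 8) ≠ 2 by decide) (show (1 : Fin 8) ≠ 3 by decide)
  let c : spinGroup8 := lift (show (0 : Fin 8) ≠ 3 by decide) (show (1 : Fin 8) ≠ 2 by decide)
  have haa : a * a = z := hsq _ _ (by decide) (by decide) (by decide) (by decide)
  have hbb : b * b = z := hsq _ _ (by decide) (by decide) (by decide) (by decide)
  have hcc : c * c = z := hsq _ _ (by decide) (by decide) (by decide) (by decide)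
  have habc : toAlt (a * b) = toAlt c := by
    refine Subtype.ext ?_
    show (swap (0 : Fin 8) 1 * swap 2 3) * (swap 0 2 * swap 1 3) = swap 0 3 * swap 1 2
    decide +kernel
  have hab : (a * b) * (a * b) = z := by
    have h1 : toAlt (c⁻¹ * (a * b)) = 1 := by rw [map_mul, map_inv, habc, inv_mul_cancel]
    have e : a * b = c * (c⁻¹ * (a * b)) := by group
    rcases (hker _).1 h1 with h | h
    · rw [e, h, mul_one, hcc]
    · have hzc := Subgroup.mem_center_iff.1 (hcen z ((hker z).2 (Or.inr rfl))) c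
      rw [e, h, mul_assoc, ← mul_assoc z, ← hzc, mul_assoc c, hzz, mul_one, hcc]
  have hcomm : ⁅a, b⁆ ≠ 1 := by
    rw [Ne, commutatorElement_eq_one_iff_mul_comm]
    intro h
    apply hz1
    calc z = (a * b) * (a * b) := hab.symm
      _ = a * (b * a) * b := by group
      _ = a * (a * b) * b := by rw [h]
      _ = (a * a) * (b * b) := by group
      _ = 1 := by rw [haa, hbb, hzz]
  have hgen : toAlt.ker ≤ Subgroup.zpowers ⁅a, b⁆ := by
    have h1 : toAlt ⁅a, b⁆ = 1 := by
      rw [map_commutatorElement, commutatorElement_eq_one_iff_mul_comm]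
      refine Subtype.ext ?_
      show (swap (0 : Fin 8) 1 * swap 2 3) * (swap 0 2 * swap 1 3) =
        (swap 0 2 * swap 1 3) * (swap 0 1 * swap 2 3)
      decide +kernel
    have h2 : ⁅a, b⁆ = z := ((hker _).1 h1).resolve_left hcomm
    intro p hp
    rcases (hker p).1 hp with rfl | rfl
    · exact one_mem _
    · rw [h2]; exact Subgroup.mem_zpowers z
  refine ⟨_, inferInstance, inferInstance, pullSnd toAlt (embAlt (show n ≤ 8 by omega)),
    isStemExtension_pullSnd toAlt_surj (fun p hp => hcen p hp) (x := a) (y := b) (r := r) (s := s)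
      (Subtype.ext hr.symm) (Subtype.ext hs.symm) hrs hgen, ?_⟩
  rw [card_ker_pull, Nat.card_eq_two_iff' (1 : toAlt.ker)]
  refine ⟨⟨z, (hker z).2 (Or.inr rfl)⟩, fun e => hz1 (congrArg Subtype.val e), fun p hp => ?_⟩
  rcases (hker p.1).1 p.2 with e | e
  · exact absurd (Subtype.ext e) hp
  · exact Subtype.ext e

theorem exists_six {n : ℕ} (hn : n = 6 ∨ n = 7) :
    ∃ (P : Type) (_ : Group P) (_ : Finite P) (σ : P →* alternatingGroup (Fin n)),
      Cfsg.IsStemExtension σ ∧ IsCyclic σ.ker ∧ Nat.card σ.ker = 6 := by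
  obtain ⟨P₁, _, _, σ₁, h₁, k₁⟩ := exists_double hn
  obtain ⟨P₂, _, _, σ₂, h₂, k₂⟩ := exists_triple hn
  have := Fact.mk Nat.prime_two
  have := Fact.mk Nat.prime_three
  obtain ⟨P, i₁, i₂, σ, hσ, hc, hk⟩ := exists_stem_coprime h₁ h₂ (by rw [k₁, k₂]; decide)
    (isCyclic_of_prime_card k₁) (isCyclic_of_prime_card k₂)
  exact ⟨P, i₁, i₂, σ, hσ, hc, by rw [hk, k₁, k₂]⟩

end Cfsg.Agent.H50.SmallAlt
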