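/-
Bi-additive maps `F × F → W` invariant under a spanning set of scalars: the twist extends to a
field automorphism, hence is a power of Frobenius.
-/
import Mathlib

set_option autoImplicit false

namespace Cfsg.Agent.H50

variable {F : Type*} [Field F]

theorem closure_submonoid_eq_top [Fintype F] (S : Submonoid F) (h0 : (0 : F) ∉ S)
    (hcard : Fintype.card F < (Nat.card S + 1) ^ 2) : AddSubgroup.closure (S : Set F) = ⊤ := by
  classical
  have hmul : ∀ a ∈ AddSubgroup.closure (S : Set F), ∀ b ∈ AddSubgroup.closure (S : Set F),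
      a * b ∈ AddSubgroup.closure (S : Set F) := by
    intro a ha
    induction ha using AddSubgroup.closure_induction with
    | mem a ha =>
      intro b hb
      induction hb using AddSubgroup.closure_induction with
      | mem b hb => exact AddSubgroup.subset_closure (S.mul_mem ha hb)
      | zero => rw [mul_zero]; exact zero_mem _
      | add b c _ _ h1 h2 => rw [mul_add]; exact add_mem h1 h2
      | neg b _ h => rw [mul_neg]; exact neg_mem h
    | zero => intro b _; rw [zero_mul]; exact zero_mem _
    | add b c _ _ h1 h2 => intro d hd; rw [add_mul]; exact add_mem (h1 d hd) (h2 d hd)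
    | neg b _ h => intro d hd; rw [neg_mul]; exact neg_mem (h d hd)
  let R : Subring F :=
    { AddSubgroup.closure (S : Set F) with
      one_mem' := AddSubgroup.subset_closure S.one_mem
      mul_mem' := fun {a b} ha hb => hmul a ha b hb }
  let fR : Field R := Fintype.fieldOfDomain R
  have hsub : (S : Set F) ⊆ R := AddSubgroup.subset_closure
  have hle : Nat.card S + 1 ≤ Fintype.card R := by
    rw [← Nat.card_eq_fintype_card]
    have h1 : Nat.card S + 1 = (insert (0 : F) (S : Set F)).ncard := by
      rw [Set.ncard_insert_of_notMem h0, ← Nat.card_coe_set_eq]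
      rfl
    rw [h1, show Nat.card ↥R = (R : Set F).ncard from Nat.card_coe_set_eq (R : Set F)]
    exact Set.ncard_le_ncard (Set.insert_subset (zero_mem R) hsub)
  have hd := Module.card_eq_pow_finrank (K := R) (V := F)
  set d := Module.finrank R F
  have hd0 : d = 1 := by
    rcases Nat.lt_trichotomy d 1 with h | h | h
    · have := Module.finrank_pos (R := R) (M := F); omega
    · exact h
    · have : (Nat.card S + 1) ^ 2 ≤ Fintype.card R ^ d :=
        (Nat.pow_le_pow_left hle 2).trans (Nat.pow_le_pow_right Fintype.card_pos h)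
      omega
  rw [hd0, pow_one] at hd
  rw [eq_top_iff]
  intro x _
  have : (R : Set F) = Set.univ :=
    Set.eq_of_subset_of_ncard_le (Set.subset_univ _) (by
      rw [Set.ncard_univ, ← Nat.card_coe_set_eq, Nat.card_eq_fintype_card, hd]
      exact le_of_eq (by rw [← Nat.card_eq_fintype_card]; rfl))
  exact (Set.ext_iff.1 this x).2 trivial

/-- If a nonzero bi-additive `c` satisfies `c (s x) (μ s y) = c x y` on a spanning set of scalars
then `s ↦ (μ s)⁻¹` extends to an endomorphism of the field. -/
theorem exists_ringHom_of_invariant {W : Type*} [AddCommGroup W] (c : F →+ F →+ W)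
    (S : Submonoid F) (h0 : (0 : F) ∉ S) (hS : AddSubgroup.closure (S : Set F) = ⊤) (μ : F → F)
    (hμS : AddSubgroup.closure (μ '' (S : Set F)) = ⊤) (hμ : ∀ s ∈ S, μ s ≠ 0)
    (hinv : ∀ s ∈ S, ∀ x y, c (s * x) (μ s * y) = c x y) (hc : c ≠ 0) :
    ∃ φ : F →+* F, ∀ s ∈ S, φ s * μ s = 1 := by
  have hne : ∀ s ∈ S, s ≠ 0 := fun s hs h => h0 (h ▸ hs)
  have hR : ∀ y, (∀ x, c x y = 0) → y = 0 := by
    intro y hy
    by_contra hy0
    apply hc
    ext x w
    have h1 : ∀ r : F, ∀ x, c x (r * y) = 0 := by
      intro r
      have : r ∈ AddSubgroup.closure (μ '' (S : Set F)) := by rw [hμS]; trivial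
      induction this using AddSubgroup.closure_induction with
      | mem r hr =>
        obtain ⟨s, hs, rfl⟩ := hr
        intro x
        have := hinv s hs (s⁻¹ * x) y
        rw [← mul_assoc, mul_inv_cancel₀ (hne s hs), one_mul, hy] at this
        exact this
      | zero => intro x; rw [zero_mul, map_zero]
      | add a b _ _ ha hb => intro x; rw [add_mul, map_add, ha, hb, add_zero]
      | neg a _ ha => intro x; rw [neg_mul, map_neg, ha, neg_zero]
    have := h1 (w * y⁻¹) x
    rwa [mul_assoc, inv_mul_cancel₀ hy0, mul_one] at this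
  have hL : ∀ x, (∀ y, c x y = 0) → x = 0 := by
    intro x hx
    by_contra hx0
    apply hc
    ext v y
    have h1 : ∀ r : F, ∀ y, c (r * x) y = 0 := by
      intro r
      have : r ∈ AddSubgroup.closure (S : Set F) := by rw [hS]; trivial
      induction this using AddSubgroup.closure_induction with
      | mem r hr =>
        intro y
        have := hinv r hr x ((μ r)⁻¹ * y)
        rw [← mul_assoc, mul_inv_cancel₀ (hμ r hr), one_mul, hx] at this
        exact this
      | zero => intro y; rw [zero_mul, map_zero, AddMonoidHom.zero_apply]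
      | add a b _ _ ha hb => intro y; rw [add_mul, map_add, AddMonoidHom.add_apply, ha, hb, add_zero]
      | neg a _ ha => intro y; rw [neg_mul, map_neg, AddMonoidHom.neg_apply, ha, neg_zero]
    have := h1 (v * x⁻¹) y
    rwa [mul_assoc, inv_mul_cancel₀ hx0, mul_one] at this
  have huniq : ∀ s t : F, (∀ x y, c x (s * y) = c x (t * y)) → s = t := by
    intro s t h
    have := hR ((s - t) * 1) (fun x => by rw [sub_mul, map_sub, h, sub_self])
    rwa [mul_one, sub_eq_zero] at this
  have hex : ∀ r : F, ∃ t : F, ∀ x y, c (r * x) y = c x (t * y) := by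
    intro r
    have : r ∈ AddSubgroup.closure (S : Set F) := by rw [hS]; trivial
    induction this using AddSubgroup.closure_induction with
    | mem r hr =>
      refine ⟨(μ r)⁻¹, fun x y => ?_⟩
      have := hinv r hr x ((μ r)⁻¹ * y)
      rwa [← mul_assoc, mul_inv_cancel₀ (hμ r hr), one_mul] at this
    | zero => exact ⟨0, fun x y => by simp⟩
    | add a b _ _ ha hb =>
      obtain ⟨t, ht⟩ := ha
      obtain ⟨u, hu⟩ := hb
      exact ⟨t + u, fun x y => by
        rw [add_mul, map_add, AddMonoidHom.add_apply, ht, hu, add_mul, map_add]⟩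
    | neg a _ ha =>
      obtain ⟨t, ht⟩ := ha
      exact ⟨-t, fun x y => by rw [neg_mul, map_neg, AddMonoidHom.neg_apply, ht, neg_mul, map_neg]⟩
  choose f hf using hex
  let φ : F →+* F :=
    { toFun := f
      map_one' := huniq _ _ fun x y => by rw [← hf, one_mul, one_mul]
      map_zero' := huniq _ _ fun x y => by rw [← hf, zero_mul, zero_mul]; simp
      map_add' := fun a b => huniq _ _ fun x y => by
        rw [← hf, add_mul, map_add, AddMonoidHom.add_apply, hf, hf, add_mul, map_add]
      map_mul' := fun a b => huniq _ _ fun x y => by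
        rw [← hf, mul_assoc, hf, hf, ← mul_assoc, mul_comm (f b)] }
  refine ⟨φ, fun s hs => ?_⟩
  have h1 : f s = (μ s)⁻¹ := huniq _ _ fun x y => by
    rw [← hf]
    have := hinv s hs x ((μ s)⁻¹ * y)
    rwa [← mul_assoc, mul_inv_cancel₀ (hμ s hs), one_mul] at this
  show f s * μ s = 1
  rw [h1, inv_mul_cancel₀ (hμ s hs)]

/-- endomorphisms of finite fields are powers of Frobenius -/
theorem exists_pow_of_ringHom [Fintype F] (p f : ℕ) [Fact p.Prime] [CharP F p]
    (hq : Fintype.card F = p ^ f) (φ : F →+* F) : ∃ i < f, ∀ x, φ x = x ^ p ^ i := by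
  let _ := ZMod.algebra F p
  let ψ : F →ₐ[ZMod p] F :=
    { φ with commutes' := fun r => congrFun (congrArg DFunLike.coe
        (RingHom.ext_zmod (φ.comp (algebraMap (ZMod p) F)) (algebraMap (ZMod p) F))) r }
  obtain ⟨⟨i, hi⟩, h⟩ := (FiniteField.bijective_frobeniusAlgHom_pow (ZMod p) F).2 ψ
  have hf : Module.finrank (ZMod p) F = f := by
    have := Module.card_eq_pow_finrank (K := ZMod p) (V := F)
    rw [hq, ZMod.card] at this
    exact (Nat.pow_right_injective (Fact.out : p.Prime).two_le this).symm
  refine ⟨i, hf ▸ hi, fun x => ?_⟩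
  have : ψ x = x ^ p ^ i := by
    rw [← h]
    show (FiniteField.frobeniusAlgHom (ZMod p) F ^ i) x = _
    rw [AlgHom.coe_pow, FiniteField.coe_frobeniusAlgHom, pow_iterate, ZMod.card]
  exact this

end Cfsg.Agent.H50
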