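/-
In `GL₄(q)` the Sylow subgroups for odd primes dividing `q² + 1` are cyclic.
-/
import Mathlib

set_option autoImplicit false

namespace Cfsg.Agent.H50

open Matrix

theorem exists_cyclic_index_coprime {F : Type*} [Field F] [Fintype F] (H : Subgroup (GL (Fin 4) F))
    (l : ℕ) (hl : l.Prime) (hl2 : l ≠ 2) (hdvd : l ∣ Fintype.card F ^ 2 + 1) :
    ∃ Q : Subgroup H, IsCyclic Q ∧ l.Coprime Q.index := by
  classical
  have := Fact.mk hl
  set q := Fintype.card F with hq
  have hq2 : 2 ≤ q := Fintype.one_lt_card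
  have hqmod : (q : ZMod l) ^ 2 = -1 := by
    have h0 : ((q ^ 2 + 1 : ℕ) : ZMod l) = 0 := (ZMod.natCast_eq_zero_iff _ _).2 hdvd
    push_cast at h0
    exact eq_neg_of_add_eq_zero_left h0
  have h2 : (2 : ZMod l) ≠ 0 := by
    intro h
    have h0 : ((2 : ℕ) : ZMod l) = 0 := by exact_mod_cast h
    exact hl2 ((Nat.prime_dvd_prime_iff_eq hl Nat.prime_two).1 ((ZMod.natCast_eq_zero_iff _ _).1 h0))
  obtain ⟨p, hp⟩ := CharP.exists F
  have := Fact.mk (CharP.char_is_prime F p)
  let K := FiniteField.Extension F p 4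
  have hK : Nat.card K = q ^ 4 := by
    rw [FiniteField.natCard_extension, Nat.card_eq_fintype_card]
  let b : Module.Basis (Fin 4) F K :=
    Module.finBasisOfFinrankEq F K (FiniteField.finrank_extension F p 4)
  let ι : Kˣ →* GL (Fin 4) F := Units.map (Algebra.leftMulMatrix b).toRingHom.toMonoidHom
  have hι : Function.Injective ι := Units.map_injective (Algebra.leftMulMatrix_injective b)
  let C := ι.range
  have hC : IsCyclic C := isCyclic_of_surjective ι.rangeRestrict ι.rangeRestrict_surjective
  have hCc : Nat.card C = q ^ 4 - 1 := by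
    rw [← Nat.card_congr (MonoidHom.ofInjective hι).toEquiv, Nat.card_units, hK]
  have hidx : ¬ l ∣ C.index := by
    intro h
    have hcard := Matrix.card_GL_field (𝔽 := F) 4
    rw [Fin.prod_univ_four, ← C.card_mul_index, hCc, ← hq] at hcard
    simp only [Fin.val_zero, Fin.val_one, Fin.val_two, pow_zero, pow_one,
      show ((3 : Fin 4) : ℕ) = 3 from rfl] at hcard
    rw [mul_assoc (q ^ 4 - 1), mul_assoc (q ^ 4 - 1)] at hcard
    rw [Nat.eq_of_mul_eq_mul_left (Nat.sub_pos_of_lt (Nat.one_lt_pow (by omega) (by omega))) hcard] at h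
    have hz : ∀ k, 1 ≤ k → k ≤ 3 → ¬ l ∣ q ^ 4 - q ^ k := by
      intro k hk1 hk3 hd
      have e : (q : ZMod l) ^ 4 = (q : ZMod l) ^ k := by
        have h0 : ((q ^ 4 - q ^ k : ℕ) : ZMod l) = 0 := (ZMod.natCast_eq_zero_iff _ _).2 hd
        rw [Nat.cast_sub (Nat.pow_le_pow_right (by omega) (by omega))] at h0
        push_cast at h0
        exact sub_eq_zero.1 h0
      interval_cases k
      · apply h2
        have e' : (q : ZMod l) ^ 4 = q := by rw [e, pow_one]
        rw [show (q : ZMod l) ^ 4 = ((q : ZMod l) ^ 2) ^ 2 by ring, hqmod] at e'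
        rw [neg_one_sq] at e'
        rw [← e', one_pow] at hqmod
        linear_combination hqmod
      · apply h2
        rw [show (q : ZMod l) ^ 4 = ((q : ZMod l) ^ 2) ^ 2 by ring, hqmod, neg_one_sq] at e
        linear_combination e
      · apply h2
        rw [show (q : ZMod l) ^ 4 = ((q : ZMod l) ^ 2) ^ 2 by ring,
          show (q : ZMod l) ^ 3 = (q : ZMod l) ^ 2 * q by ring, hqmod, neg_one_sq] at e
        have e2 : (q : ZMod l) = -1 := by linear_combination e
        rw [e2, neg_one_sq] at hqmod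
        linear_combination hqmod
    rcases hl.dvd_mul.1 h with h' | h'
    · rcases hl.dvd_mul.1 h' with h' | h'
      · exact hz 1 le_rfl (by norm_num) (by rwa [pow_one])
      · exact hz 2 (by norm_num) (by norm_num) h'
    · exact hz 3 (by norm_num) le_rfl h'
  -- Sylow subgroup of `C` is one of `GL₄`
  obtain ⟨S⟩ := (inferInstance : Nonempty (Sylow l C))
  let S' : Subgroup (GL (Fin 4) F) := (S : Subgroup C).map C.subtype
  have hS'idx : ¬ l ∣ S'.index := by
    rw [Subgroup.index_map_subtype]
    exact fun h => (hl.dvd_mul.1 h).elim S.not_dvd_index hidx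
  have hS'p : IsPGroup l S' := S.isPGroup'.map _
  let P : Sylow l (GL (Fin 4) F) := hS'p.toSylow hS'idx
  obtain ⟨Q⟩ := (inferInstance : Nonempty (Sylow l H))
  obtain ⟨R, hR⟩ := (Q.isPGroup'.map H.subtype).exists_le_sylow
  obtain ⟨g, hg⟩ := MulAction.exists_smul_eq (GL (Fin 4) F) P R
  have hPc : IsCyclic (P : Subgroup (GL (Fin 4) F)) := by
    have : IsCyclic (S : Subgroup C) := inferInstance
    exact isCyclic_of_surjective _
      ((S : Subgroup C).equivMapOfInjective C.subtype C.subtype_injective).surjective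
  have hRc : IsCyclic (R : Subgroup (GL (Fin 4) F)) := by
    rw [← hg]
    exact isCyclic_of_surjective _ (P.equiv (g • P)).surjective
  refine ⟨Q, ?_, (Nat.Prime.coprime_iff_not_dvd hl).2 Q.not_dvd_index⟩
  have : IsCyclic ((Q : Subgroup H).map H.subtype) :=
    isCyclic_of_injective (Subgroup.inclusion hR) (Subgroup.inclusion_injective hR)
  exact isCyclic_of_injective ((Q : Subgroup H).equivMapOfInjective H.subtype H.subtype_injective).toMonoidHom
    (MulEquiv.injective _)

end Cfsg.Agent.H50
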