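/-
Commutators of two "additive modulo commuting elements" families are bi-additive.
-/
import Mathlib

set_option autoImplicit false

namespace Cfsg.Agent.H50

open scoped commutatorElement

variable {Γ : Type*} [Group Γ]

theorem commutator_mul_left_of_commute {g w h : Γ} (hw : Commute w h) :
    ⁅g * w, h⁆ = ⁅g, h⁆ := by
  simp only [commutatorElement_def, _root_.mul_inv_rev]
  calc g * w * h * (w⁻¹ * g⁻¹) * h⁻¹ = g * (w * h) * w⁻¹ * g⁻¹ * h⁻¹ := by group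
    _ = g * (h * w) * w⁻¹ * g⁻¹ * h⁻¹ := by rw [hw.eq]
    _ = g * h * g⁻¹ * h⁻¹ := by group

theorem commutator_mul_right_of_commute {g w h : Γ} (hw : Commute g w) :
    ⁅g, h * w⁆ = ⁅g, h⁆ := by
  rw [← commutatorElement_inv (h * w), commutator_mul_left_of_commute hw.symm, commutatorElement_inv]

theorem commutator_mul_of_commute {a b h : Γ} (hw : Commute a ⁅b, h⁆) :
    ⁅a * b, h⁆ = ⁅b, h⁆ * ⁅a, h⁆ := by
  calc ⁅a * b, h⁆ = a * ⁅b, h⁆ * a⁻¹ * ⁅a, h⁆ := by simp only [commutatorElement_def]; group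
    _ = ⁅b, h⁆ * ⁅a, h⁆ := by rw [hw.eq, mul_inv_cancel_right]

variable {X Y : Type*}

/-- left additivity of `x, y ↦ ⁅s x, r y⁆` -/
theorem commForm_add_left [Add X] (s : X → Γ) (r : Y → Γ)
    (hs : ∀ x x', ∃ w, (∀ y, Commute w (r y)) ∧ s (x + x') = s x * s x' * w)
    (hc : ∀ x x' y, Commute (s x') ⁅s x, r y⁆)
    (hcc : ∀ x x' y, Commute ⁅s x, r y⁆ ⁅s x', r y⁆) (x x' : X) (y : Y) :
    ⁅s (x + x'), r y⁆ = ⁅s x, r y⁆ * ⁅s x', r y⁆ := by
  obtain ⟨w, hw, e⟩ := hs x x'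
  rw [e, commutator_mul_left_of_commute (hw y), commutator_mul_of_commute (hc x' x y), (hcc x x' y).eq]

/-- right additivity of `x, y ↦ ⁅s x, r y⁆` -/
theorem commForm_add_right [Add Y] (s : X → Γ) (r : Y → Γ)
    (hr : ∀ y y', ∃ w, (∀ x, Commute (s x) w) ∧ r (y + y') = r y * r y' * w)
    (hc : ∀ x y y', Commute (r y') ⁅s x, r y⁆)
    (hcc : ∀ x y y', Commute ⁅s x, r y⁆ ⁅s x, r y'⁆) (x : X) (y y' : Y) :
    ⁅s x, r (y + y')⁆ = ⁅s x, r y⁆ * ⁅s x, r y'⁆ := by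
  obtain ⟨w, hw, e⟩ := hr y y'
  rw [e, commutator_mul_right_of_commute (hw x), ← commutatorElement_inv (r y * r y'),
    commutator_mul_of_commute (by rw [← commutatorElement_inv]; exact (hc x y' y).inv_right),
    _root_.mul_inv_rev, commutatorElement_inv, commutatorElement_inv]

end Cfsg.Agent.H50
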