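/-
Abstract form of the trivial multiplier of a Suzuki group: the 2-part.
-/
import Cfsg.Agent.H50.SchurRigid
import Cfsg.Agent.H50.InvBilinear
import Cfsg.Agent.H50.CommForm

set_option autoImplicit false

namespace Cfsg.Agent.H50

open scoped commutatorElement
open Subgroup

theorem two_pow_ineq (m i : ℕ) (hm : 2 ≤ m) (hi : i < 2 * m + 1) :
    2 ^ i + 2 ^ (m + 1) + 1 < 2 ^ (2 * m + 1) - 1 := by
  have h1 : 2 ^ i ≤ 2 ^ (2 * m) := Nat.pow_le_pow_right two_pos (by omega)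
  have h2 : 4 * 2 ^ m ≤ 2 ^ (2 * m) := by
    have : 2 ^ 2 * 2 ^ m ≤ 2 ^ m * 2 ^ m := Nat.mul_le_mul_right _ (Nat.pow_le_pow_right two_pos hm)
    rw [two_mul, pow_add]
    simpa using this
  have h3 : 4 ≤ 2 ^ m := Nat.pow_le_pow_right two_pos hm
  rw [pow_succ 2 (2 * m), pow_succ 2 m]
  omega

universe u

variable {F G : Type u} [Field F] [Fintype F] [Group G]

/-- The 2-part of the multiplier of a group with a Suzuki-like Borel subgroup is trivial. -/
theorem suzuki_two_part [CharP F 2] (m : ℕ) (hm : 2 ≤ m) (hF : Fintype.card F = 2 ^ (2 * m + 1))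
    (v : F → F → G) (f : F → F → F) (hmul : ∀ a b a' b', v a b * v a' b' = v (a + a') (b + b' + f a a'))
    (hf0 : ∀ a, f 0 a = 0) (hf0' : ∀ a, f a 0 = 0) (U : Subgroup G)
    (hU : ∀ g, g ∈ U ↔ ∃ a b, v a b = g) (hidx : Odd U.index)
    (h : Fˣ → G) (hconj : ∀ t a b, h t * v a b * (h t)⁻¹ = v ((t : F) * a) ((t : F) ^ (2 ^ (m + 1) + 1) * b))
    (hh : ∀ t t', h (t * t') = h t * h t')
    {Γ : Type u} [Group Γ] [Finite Γ] {σ : Γ →* G} (hσ : IsStemExtension σ)
    (z : Γ) (hz : z ∈ σ.ker) (hzp : z ^ 2 = 1) : z = 1 := by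
  classical
  have := Fact.mk Nat.prime_two
  obtain ⟨hzQ, hzc⟩ := mem_commutator_comap hσ U (Nat.coprime_two_left.2 hidx) z hz hzp
  set e := 2 ^ (m + 1) + 1 with he
  set q1 := 2 ^ (2 * m + 1) - 1 with hq1
  have hqu : Nat.card Fˣ = q1 := by rw [Nat.card_units, Nat.card_eq_fintype_card, hF]
  obtain ⟨g0, hg0⟩ := IsCyclic.exists_ofOrder_eq_natCard (α := Fˣ)
  rw [hqu] at hg0
  -- `t ↦ t ^ e` is surjective on units
  have hesurj : ∀ t : Fˣ, ∃ r : Fˣ, r ^ e = t := by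
    have hcop : (Nat.card Fˣ).Coprime e := by
      rw [hqu]
      refine Nat.coprime_of_dvd fun k hk h1 h2 => ?_
      obtain ⟨x, hx⟩ := h1
      obtain ⟨y, hy⟩ := h2
      set A := 2 ^ (m + 1) with hA
      have hq : 2 ^ (2 * m + 1) * 2 = A * A := by
        rw [hA, ← pow_succ, ← pow_add]; congr 1; omega
      have hp : 2 ≤ k := hk.two_le
      have hpos : 1 ≤ 2 ^ (2 * m + 1) := Nat.one_le_two_pow
      have hA2 : 2 ≤ A := le_trans (by norm_num) (Nat.pow_le_pow_right two_pos (show 1 ≤ m + 1 by omega))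
      have hdvd1 : k ∣ A * A - 1 := by
        obtain ⟨B, hB⟩ : ∃ B, A = B + 1 := ⟨A - 1, by omega⟩
        refine ⟨y * B, ?_⟩
        rw [he] at hy
        rw [hB, ← mul_assoc, ← hy, hB]
        exact Nat.sub_eq_of_eq_add (by ring)
      have hdvd2 : k ∣ A * A - 2 := ⟨2 * x, by rw [← hq]; rw [hq1] at hx; rw [mul_left_comm, ← hx]; omega⟩
      have := Nat.dvd_sub hdvd1 hdvd2
      rw [show A * A - 1 - (A * A - 2) = 1 by omega] at this
      have := Nat.le_of_dvd one_pos this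
      omega
    exact fun t => ⟨(powCoprime hcop).symm t, (powCoprime hcop).apply_symm_apply t⟩
  obtain ⟨s, hs⟩ : ∃ s : F → F → Γ, ∀ a b, σ (s a b) = v a b :=
    ⟨fun a b => (hσ.1 (v a b)).choose, fun a b => (hσ.1 (v a b)).choose_spec⟩
  obtain ⟨T, hT⟩ : ∃ T : Fˣ → Γ, ∀ t, σ (T t) = h t :=
    ⟨fun t => (hσ.1 (h t)).choose, fun t => (hσ.1 (h t)).choose_spec⟩
  have cen : ∀ {w : Γ}, σ w = 1 → ∀ g : Γ, Commute g w := fun hw g =>
    mem_center_iff.1 (hσ.2.1 (MonoidHom.mem_ker.2 hw)) g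
  have lift : ∀ {g g' : Γ}, σ g = σ g' → ∃ w, σ w = 1 ∧ g = g' * w := fun {g g'} hgg =>
    ⟨g'⁻¹ * g, by simp [hgg], by group⟩
  have indep : ∀ {g k g' k' : Γ}, σ g = σ g' → σ k = σ k' → ⁅g, k⁆ = ⁅g', k'⁆ := by
    intro g k g' k' e1 e2
    obtain ⟨w1, hw1, rfl⟩ := lift e1
    obtain ⟨w2, hw2, rfl⟩ := lift e2
    rw [commutator_mul_left_of_commute (cen hw1 _).symm, commutator_mul_right_of_commute (cen hw2 _)]
  have conjT : ∀ t a b, σ (T t * s a b * (T t)⁻¹) = σ (s ((t : F) * a) ((t : F) ^ e * b)) := fun t a b => by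
    rw [map_mul, map_mul, map_inv, hT, hs, hs, hconj]
  -- unit values generate, and no twist works
  let S : Submonoid F := Submonoid.map (Units.coeHom F) ⊤
  have hS0 : (0 : F) ∉ S := by rintro ⟨t, -, ht⟩; simp at ht
  have hSmem : ∀ t : Fˣ, (t : F) ∈ S := fun t => ⟨t, trivial, rfl⟩
  have hStop : AddSubgroup.closure (S : Set F) = ⊤ := by
    rw [eq_top_iff]
    intro x _
    rcases eq_or_ne x 0 with rfl | hx
    · exact zero_mem _
    · exact AddSubgroup.subset_closure (hSmem (Units.mk0 x hx))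
  have hμe : AddSubgroup.closure ((fun x : F => x ^ e) '' (S : Set F)) = ⊤ := by
    rw [eq_top_iff, ← hStop]
    refine AddSubgroup.closure_mono ?_
    rintro _ ⟨t, -, rfl⟩
    obtain ⟨r, hr⟩ := hesurj t
    exact ⟨r, hSmem r, by simp [← hr]⟩
  have noTwist : ∀ (W : Type u) [AddCommGroup W] (c : F →+ F →+ W) (d : ℕ),
      AddSubgroup.closure ((fun x : F => x ^ d) '' (S : Set F)) = ⊤ → d ≤ e →
      (∀ t : Fˣ, ∀ x y, c ((t : F) * x) ((t : F) ^ d * y) = c x y) → c = 0 := by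
    intro W _ c d hd hde hinv
    by_contra hc
    obtain ⟨φ, hφ⟩ := exists_ringHom_of_invariant c S hS0 hStop (fun x => x ^ d) hd
      (fun x hx => pow_ne_zero _ fun h0 => hS0 (h0 ▸ hx))
      (by rintro _ ⟨t, -, rfl⟩ x y; exact hinv t x y) hc
    obtain ⟨i, hi, hφi⟩ := exists_pow_of_ringHom 2 (2 * m + 1) hF φ
    have h1 := hφ _ (hSmem g0)
    rw [hφi, ← pow_add] at h1
    have h2 : q1 ∣ 2 ^ i + d := hg0 ▸ orderOf_dvd_of_pow_eq_one (Units.ext (by simpa using h1))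
    have := Nat.le_of_dvd (by positivity) h2
    have := two_pow_ineq m i hm hi
    omega
  have oneMap : AddSubgroup.closure ((fun x : F => x ^ 1) '' (S : Set F)) = ⊤ := by
    simpa using hStop
  have v00 : v 0 0 = 1 := by
    have h1 := hmul 0 0 0 0
    rw [hf0, add_zero, add_zero] at h1
    exact mul_eq_left.1 h1
  have hs00 : σ (s 0 0) = 1 := by rw [hs, v00]
  have hzz : ∀ b b', v 0 b * v 0 b' = v 0 (b + b') := fun b b' => by rw [hmul, hf0]; simp
  have hza : ∀ a b, Commute (v 0 b) (v a 0) := fun a b => by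
    show _ = _
    rw [hmul, hmul, hf0, hf0']; simp
  let K : Subgroup Γ := σ.ker
  let _ : CommGroup K :=
    { (inferInstance : Group K) with
      mul_comm := fun x y => Subtype.ext (cen (MonoidHom.mem_ker.1 y.2) x).eq }
  -- step 1: the preimages of the `v 0 b` commute
  have k3 : ∀ b b', σ ⁅s 0 b, s 0 b'⁆ = 1 := fun b b' => by
    rw [map_commutatorElement, hs, hs, commutatorElement_eq_one_iff_mul_comm, hzz, hzz, add_comm]
  have z3 : ∀ b b', Commute (s 0 b) (s 0 b') := by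
    have addl := commForm_add_left (fun b => s 0 b) (fun b => s 0 b)
      (fun x x' => by
        obtain ⟨w, hw, e⟩ := lift (g := s 0 (x + x')) (g' := s 0 x * s 0 x') (by rw [map_mul, hs, hs, hs, hzz])
        exact ⟨w, fun y => (cen hw _).symm, e⟩)
      (fun x x' y => cen (k3 x y) _) (fun x x' y => cen (k3 x' y) _)
    have addr := commForm_add_right (fun b => s 0 b) (fun b => s 0 b)
      (fun x x' => by
        obtain ⟨w, hw, e⟩ := lift (g := s 0 (x + x')) (g' := s 0 x * s 0 x') (by rw [map_mul, hs, hs, hs, hzz])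
        exact ⟨w, fun y => cen hw _, e⟩)
      (fun x y y' => cen (k3 x y) _) (fun x y y' => cen (k3 x y') _)
    let c : F →+ F →+ Additive K :=
      AddMonoidHom.mk' (fun x => AddMonoidHom.mk' (fun y => Additive.ofMul ⟨⁅s 0 x, s 0 y⁆, k3 x y⟩)
          (fun y y' => congrArg Additive.ofMul (Subtype.ext (addr x y y'))))
        (fun x x' => AddMonoidHom.ext fun y => congrArg Additive.ofMul (Subtype.ext (addl x x' y)))
    have hc : c = 0 := noTwist _ c 1 oneMap (Nat.le_add_left 1 _) fun t x y => by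
      obtain ⟨r, rfl⟩ := hesurj t
      refine congrArg Additive.ofMul (Subtype.ext ?_)
      show ⁅s 0 _, s 0 _⁆ = ⁅s 0 x, s 0 y⁆
      rw [indep (g' := T r * s 0 x * (T r)⁻¹) (k' := T r * s 0 y * (T r)⁻¹)
        (by rw [conjT]; simp) (by rw [conjT]; simp)]
      rw [show ⁅T r * s 0 x * (T r)⁻¹, T r * s 0 y * (T r)⁻¹⁆ = T r * ⁅s 0 x, s 0 y⁆ * (T r)⁻¹ by
        simp only [commutatorElement_def]; group, (cen (k3 x y) (T r)).eq, mul_inv_cancel_right]
    intro b b'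
    have := DFunLike.congr_fun (DFunLike.congr_fun hc b) b'
    exact commutatorElement_eq_one_iff_commute.1
      (congrArg Subtype.val (Additive.ofMul.injective (this.trans (by rfl : (0 : Additive K) = Additive.ofMul 1))))
  -- preimage of the centre of `U`
  let W : Subgroup Γ :=
    { carrier := {g | ∃ b, σ g = v 0 b}
      one_mem' := ⟨0, by rw [map_one, v00]⟩
      mul_mem' := by rintro g g' ⟨b, hb⟩ ⟨b', hb'⟩; exact ⟨b + b', by rw [map_mul, hb, hb', hzz]⟩
      inv_mem' := by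
        rintro g ⟨b, hb⟩
        refine ⟨-b, ?_⟩
        rw [map_inv, hb]
        exact inv_eq_of_mul_eq_one_right (by rw [hzz, add_neg_cancel, v00]) }
  have hWcomm : ∀ g ∈ W, ∀ g' ∈ W, Commute g g' := by
    rintro g ⟨b, hb⟩ g' ⟨b', hb'⟩
    obtain ⟨w, hw, rfl⟩ := lift (hb.trans (hs 0 b).symm)
    obtain ⟨w', hw', rfl⟩ := lift (hb'.trans (hs 0 b').symm)
    exact ((z3 b b').mul_right (cen hw' _)).mul_left ((cen hw _).symm.mul_right (cen hw' _))
  have hmemW : ∀ {g}, σ g = 1 → g ∈ W := fun hg => ⟨0, by rw [hg, v00]⟩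
  have hsW : ∀ b, s 0 b ∈ W := fun b => ⟨b, hs 0 b⟩
  -- step 2: they centralise the preimages of the `v a 0`
  have k2 : ∀ a b, σ ⁅s a 0, s 0 b⁆ = 1 := fun a b => by
    rw [map_commutatorElement, hs, hs, commutatorElement_eq_one_iff_mul_comm]
    exact (hza a b).symm.eq
  have hsadd : ∀ a a', ∃ w ∈ W, s (a + a') 0 = s a 0 * s a' 0 * w := by
    intro a a'
    refine ⟨(s a 0 * s a' 0)⁻¹ * s (a + a') 0, ⟨-f a a', ?_⟩, by group⟩
    rw [map_mul, map_inv, map_mul, hs, hs, hs, inv_mul_eq_iff_eq_mul, hmul, hmul, hf0']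
    congr 1 <;> simp
  have z2 : ∀ a b, Commute (s a 0) (s 0 b) := by
    have addl := commForm_add_left (fun a => s a 0) (fun b => s 0 b)
      (fun x x' => by
        obtain ⟨w, hw, e⟩ := hsadd x x'
        exact ⟨w, fun y => hWcomm w hw _ (hsW y), e⟩)
      (fun x x' y => cen (k2 x y) _) (fun x x' y => cen (k2 x' y) _)
    have addr := commForm_add_right (fun a => s a 0) (fun b => s 0 b)
      (fun x x' => by
        obtain ⟨w, hw, e⟩ := lift (g := s 0 (x + x')) (g' := s 0 x * s 0 x') (by rw [map_mul, hs, hs, hs, hzz])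
        exact ⟨w, fun y => cen hw _, e⟩)
      (fun x y y' => cen (k2 x y) _) (fun x y y' => cen (k2 x y') _)
    let c : F →+ F →+ Additive K :=
      AddMonoidHom.mk' (fun x => AddMonoidHom.mk' (fun y => Additive.ofMul ⟨⁅s x 0, s 0 y⁆, k2 x y⟩)
          (fun y y' => congrArg Additive.ofMul (Subtype.ext (addr x y y'))))
        (fun x x' => AddMonoidHom.ext fun y => congrArg Additive.ofMul (Subtype.ext (addl x x' y)))
    have hc : c = 0 := noTwist _ c e hμe le_rfl fun t x y => by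
      refine congrArg Additive.ofMul (Subtype.ext ?_)
      show ⁅s _ 0, s 0 _⁆ = ⁅s x 0, s 0 y⁆
      rw [indep (g' := T t * s x 0 * (T t)⁻¹) (k' := T t * s 0 y * (T t)⁻¹)
        (by rw [conjT]; simp) (by rw [conjT]; simp)]
      rw [show ⁅T t * s x 0 * (T t)⁻¹, T t * s 0 y * (T t)⁻¹⁆ = T t * ⁅s x 0, s 0 y⁆ * (T t)⁻¹ by
        simp only [commutatorElement_def]; group, (cen (k2 x y) (T t)).eq, mul_inv_cancel_right]
    intro a b
    have := DFunLike.congr_fun (DFunLike.congr_fun hc a) b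
    exact commutatorElement_eq_one_iff_commute.1
      (congrArg Subtype.val (Additive.ofMul.injective (this.trans (by rfl : (0 : Additive K) = Additive.ofMul 1))))
  have hWa : ∀ g ∈ W, ∀ a, Commute (s a 0) g := by
    rintro g ⟨b, hb⟩ a
    obtain ⟨w, hw, rfl⟩ := lift (hb.trans (hs 0 b).symm)
    exact (z2 a b).mul_right (cen hw _)
  -- step 3: averaging over the torus
  have k1 : ∀ a a', ⁅s a 0, s a' 0⁆ ∈ W := by
    intro a a'
    refine ⟨f a a' - f a' a, ?_⟩
    rw [map_commutatorElement, hs, hs, commutatorElement_def, mul_inv_eq_iff_eq_mul, mul_inv_eq_iff_eq_mul,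
      hmul, hmul, hmul, hf0, add_zero, zero_add]
    simp only [zero_add, add_zero]
    congr 1 <;> ring
  let _ : CommGroup W :=
    { (inferInstance : Group W) with mul_comm := fun x y => Subtype.ext (hWcomm x x.2 y y.2).eq }
  have hcW : ∀ t : Fˣ, ∀ g ∈ W, T t * g * (T t)⁻¹ ∈ W := by
    rintro t g ⟨b, hb⟩
    refine ⟨(t : F) ^ e * b, ?_⟩
    rw [map_mul, map_mul, map_inv, hT, hb, hconj, mul_zero]
  let A : W →* W :=
    { toFun := fun w => ∏ t : Fˣ, (⟨T t * w * (T t)⁻¹, hcW t w w.2⟩ : W)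
      map_one' := Finset.prod_eq_one fun t _ => Subtype.ext (by simp)
      map_mul' := fun x y => by
        rw [← Finset.prod_mul_distrib]
        refine Finset.prod_congr rfl fun t _ => Subtype.ext ?_
        push_cast
        group }
  have addl := commForm_add_left (fun a => s a 0) (fun a => s a 0)
    (fun x x' => by
      obtain ⟨w, hw, e⟩ := hsadd x x'
      exact ⟨w, fun y => (hWa w hw y).symm, e⟩)
    (fun x x' y => hWa _ (k1 x y) _) (fun x x' y => hWcomm _ (k1 x y) _ (k1 x' y))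
  have addr := commForm_add_right (fun a => s a 0) (fun a => s a 0)
    (fun x x' => by
      obtain ⟨w, hw, e⟩ := hsadd x x'
      exact ⟨w, fun y => hWa w hw y, e⟩)
    (fun x y y' => hWa _ (k1 x y) _) (fun x y y' => hWcomm _ (k1 x y) _ (k1 x y'))
  let c : F →+ F →+ Additive W :=
    AddMonoidHom.mk' (fun x => AddMonoidHom.mk' (fun y => Additive.ofMul (A ⟨⁅s x 0, s y 0⁆, k1 x y⟩))
        (fun y y' => by
          rw [← ofMul_mul, ← map_mul]
          exact congrArg (fun w => Additive.ofMul (A w)) (Subtype.ext (addr x y y'))))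
      (fun x x' => AddMonoidHom.ext fun y => by
        show Additive.ofMul (A ⟨⁅s (x + x') 0, s y 0⁆, k1 _ y⟩) = Additive.ofMul _ + Additive.ofMul _
        rw [← ofMul_mul, ← map_mul]
        exact congrArg (fun w => Additive.ofMul (A w)) (Subtype.ext (addl x x' y)))
  have hc : c = 0 := noTwist _ c 1 oneMap (Nat.le_add_left 1 _) fun r x y => by
    refine congrArg Additive.ofMul ?_
    show (∏ t : Fˣ, (⟨T t * ⁅s ((r : F) * x) 0, s ((r : F) ^ 1 * y) 0⁆ * (T t)⁻¹, _⟩ : W)) =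
      ∏ t : Fˣ, (⟨T t * ⁅s x 0, s y 0⁆ * (T t)⁻¹, _⟩ : W)
    refine Fintype.prod_equiv (Equiv.mulRight r) _ _ fun t => Subtype.ext ?_
    show T t * _ * (T t)⁻¹ = T (t * r) * _ * (T (t * r))⁻¹
    rw [pow_one, indep (g' := T r * s x 0 * (T r)⁻¹) (k' := T r * s y 0 * (T r)⁻¹)
      (by rw [conjT]; simp) (by rw [conjT]; simp)]
    obtain ⟨w, hw, hTw⟩ := lift (g := T (t * r)) (g' := T t * T r) (by rw [map_mul, hT, hT, hT, hh])
    rw [hTw]
    simp only [commutatorElement_def, _root_.mul_inv_rev]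
    calc T t * (T r * s x 0 * (T r)⁻¹ * (T r * s y 0 * (T r)⁻¹) * ((T r)⁻¹⁻¹ * ((s x 0)⁻¹ * (T r)⁻¹)) *
          ((T r)⁻¹⁻¹ * ((s y 0)⁻¹ * (T r)⁻¹))) * (T t)⁻¹
        = T t * T r * (s x 0 * s y 0 * (s x 0)⁻¹ * (s y 0)⁻¹) * ((T r)⁻¹ * (T t)⁻¹) := by group
      _ = T t * T r * (w * (s x 0 * s y 0 * (s x 0)⁻¹ * (s y 0)⁻¹) * w⁻¹) * ((T r)⁻¹ * (T t)⁻¹) := by
          rw [← (cen hw (s x 0 * s y 0 * (s x 0)⁻¹ * (s y 0)⁻¹)).eq, mul_inv_cancel_right]
      _ = _ := by group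
  -- conclusion
  let P := U.comap σ
  have hA0 : ∀ x y, A ⟨⁅s x 0, s y 0⁆, k1 x y⟩ = 1 := fun x y =>
    Additive.ofMul.injective (DFunLike.congr_fun (DFunLike.congr_fun hc x) y)
  let N : Subgroup Γ := A.ker.map W.subtype
  have hPdec : ∀ g ∈ P, ∃ a, ∃ w ∈ W, g = s a 0 * w := by
    intro g hg
    obtain ⟨a, b, hab⟩ := (hU (σ g)).1 hg
    refine ⟨a, (s a 0)⁻¹ * g, ⟨b, ?_⟩, by group⟩
    rw [map_mul, map_inv, hs, ← hab, inv_mul_eq_iff_eq_mul, hmul, hf0']
    simp
  have hgen : ∀ g : P, ∀ k : P, ((⁅g, k⁆ : P) : Γ) ∈ N := by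
    intro g k
    obtain ⟨a, w, hw, hga⟩ := hPdec g g.2
    obtain ⟨a', w', hw', hka⟩ := hPdec k k.2
    show ⁅(g : Γ), (k : Γ)⁆ ∈ N
    rw [hga, hka, commutator_mul_left_of_commute ((hWa w hw a').symm.mul_right (hWcomm w hw w' hw')),
      commutator_mul_right_of_commute (hWa w' hw' a)]
    exact ⟨⟨_, k1 a a'⟩, hA0 a a', rfl⟩
  have hzN : z ∈ N := by
    have : commutator ↥P ≤ N.comap P.subtype := by
      rw [_root_.commutator_def, commutator_le]
      exact fun g _ k _ => hgen g k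
    exact this hzc
  obtain ⟨⟨z', hz'W⟩, hz'A, rfl⟩ := hzN
  have hval : A ⟨z', hz'W⟩ = (⟨z', hz'W⟩ : W) ^ q1 := by
    show ∏ t : Fˣ, _ = _
    rw [Finset.prod_congr rfl (g := fun _ => (⟨z', hz'W⟩ : W)) fun t _ => Subtype.ext (by
      show T t * z' * (T t)⁻¹ = z'
      exact mul_inv_eq_iff_eq_mul.2 (cen (MonoidHom.mem_ker.1 hz) (T t)).eq), Finset.prod_const,
      Finset.card_univ, ← Nat.card_eq_fintype_card, hqu]
  have hz' : A ⟨z', hz'W⟩ = 1 := hz'A
  rw [hval] at hz'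
  have h1 : z' ^ q1 = 1 := congrArg Subtype.val hz'
  have hodd : q1 % 2 = 1 := by
    have : 2 ^ (2 * m + 1) = 2 * 2 ^ (2 * m) := by rw [pow_succ, mul_comm]
    have : 1 ≤ 2 ^ (2 * m) := Nat.one_le_two_pow
    omega
  rw [← Nat.div_add_mod q1 2, hodd, pow_add, pow_mul, pow_one] at h1
  change z' ^ 2 = 1 at hzp
  rw [hzp, one_pow, one_mul] at h1
  exact h1

end Cfsg.Agent.H50
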