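import Cfsg.Agent.H38.St.SmallSplit
import Cfsg.Agent.H38.St.Symbols
import Cfsg.Agent.H38.St.Coprime
import Cfsg.Agent.H74.SchurBasic
import Cfsg.Agent.Linear.Mult.CentralQuot
import Cfsg.Agent.S2395

/-!
The multiplier of an adjoint Chevalley group whose Steinberg cover has only split central extensions
is the centre of the universal group.
-/

set_option autoImplicit false

universe u v

namespace Cfsg.Agent.H50.ChevMult

open Cfsg.Lie Cfsg.Lie.ChevalleyDatum

variable {K : Type u} [Field K] [Fintype K]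

theorem hasCyclicSchurMultiplier {D : ChevalleyDatum}
    (hmem : D ∈ [chevG2, chevB2, chevD4, chevF4, chevE6, chevE7, chevE8])
    (hBG : D ∈ [chevB2, chevG2] → ∃ x : K, x ≠ 0 ∧ x ≠ 1)
    (hsplit : ∀ (P : Type u) [Group P] (X : H38.St.CExt P (D.SteinbergCover K)),
      ∃ f : D.SteinbergCover K →* P, ∀ x, X.p (f x) = x)
    {k : ℕ} (hk : Nat.card (Subgroup.center (D.SteinbergGroup K)) = k) (hkc : k.Prime ∨ k = 1) :
    Cfsg.HasCyclicSchurMultiplier ↥(D.group K) k := by
  obtain ⟨Q, hrel, hA⟩ := H38.St.exists_stData hmem K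
  obtain ⟨φ, -⟩ := H38.St.cover_equiv Q hrel hA
  have hperf : commutator (D.SteinbergCover K) = ⊤ := S2395.result D hmem hBG
  have hfin : Finite (D.SteinbergCover K) := H38.St.finite_cover Q hrel hA hperf
  have : Finite (D.SteinbergGroup K) := Finite.of_equiv _ φ.toEquiv
  have hP : Group.IsPerfect (D.SteinbergGroup K) := by
    rw [Group.isPerfect_def, eq_top_iff, ← Subgroup.map_top_of_surjective φ.toMonoidHom φ.surjective,
      ← hperf, map_commutator_eq]
    exact Subgroup.commutator_mono le_top le_top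
  have h1 : Cfsg.HasCyclicSchurMultiplier (D.SteinbergGroup K) 1 := by
    refine H74.Schur.hasCyclicSchurMultiplier_one fun Γ _ _ σ hσ => ?_
    obtain ⟨hs, hc, hd⟩ := hσ
    let X : H38.St.CExt Γ (D.SteinbergCover K) :=
      ⟨φ.symm.toMonoidHom.comp σ, φ.symm.surjective.comp hs, fun g hg => hc (by
        rw [MonoidHom.mem_ker] at hg ⊢
        exact φ.symm.injective (hg.trans (map_one φ.symm).symm))⟩
    have hker : X.p.ker = σ.ker := MonoidHom.ker_mulEquiv_comp σ φ.symm
    obtain ⟨f, hf⟩ := hsplit Γ X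
    rw [← hker]
    exact H38.St.ker_eq_bot_of_section X (hker ▸ hd) hf
  obtain ⟨θ, hθ, hker, -⟩ := H38.St.steinberg Q hrel hA
  have hcard : Nat.card θ.ker = k := by rw [hker, hk]
  refine Linear.Mult.hasCyclicSchurMultiplier_of_cover hP h1 θ hθ hker.le ?_ hcard
  rcases hkc with h | h
  · have : Fact k.Prime := ⟨h⟩
    exact isCyclic_of_prime_card hcard
  · have : Subsingleton θ.ker := (Nat.card_eq_one_iff_unique.1 (hcard.trans h)).1
    infer_instance

end Cfsg.Agent.H50.ChevMult
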