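/-
Kernel-checked search for involutions satisfying word relations inside a group given by a
checked stabiliser chain in `M₂₄`.
-/
import Cfsg.Agent.Golay.Chain

set_option autoImplicit false

namespace Cfsg.Agent.H50

open Cfsg Cfsg.Agent.Golay

/-- an involution (or the identity) of the positions `0 … 23` -/
def Inv24 (f : ℕ → ℕ) : Prop := ∀ i < 24, f i < 24 ∧ f (f i) = i

/-- `f` extends the partial table `s` (entry `31` = undefined) -/
def Ext (f : ℕ → ℕ) (s : ℕ) : Prop := ∀ i < 24, app s i ≠ 31 → app s i = f i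

/-- define an undefined entry -/
def put (s u v : ℕ) : ℕ := s ^^^ ((31 ^^^ v) <<< (5 * u))

/-- all entries undefined -/
def undefTbl : ℕ := mkTbl 24 fun _ => 31

theorem app_put {s u v i : ℕ} (hu : app s u = 31) (hv : v < 32) :
    app (put s u v) i = if i = u then v else app s i := by
  have h31 : (31 : ℕ) = 2 ^ 5 - 1 := by norm_num
  have hx : 31 ^^^ v < 2 ^ 5 := Nat.xor_lt_two_pow (by norm_num) (by simpa using hv)
  unfold app put at *
  refine Nat.eq_of_testBit_eq fun j => ?_
  split_ifs with h
  · subst h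
    have hb := congrArg (fun t => Nat.testBit t j) hu
    simp only [h31, Nat.testBit_and, Nat.testBit_shiftRight, Nat.testBit_two_pow_sub_one] at hb
    simp only [h31, Nat.testBit_and, Nat.testBit_shiftRight, Nat.testBit_two_pow_sub_one,
      Nat.testBit_xor, Nat.testBit_shiftLeft, Nat.add_sub_cancel_left]
    rcases Nat.lt_or_ge j 5 with hj | hj
    · simp [hj] at hb ⊢
      simp [hb]
    · have : v.testBit j = false := Nat.testBit_eq_false_of_lt
        (lt_of_lt_of_le hv (by simpa using Nat.pow_le_pow_right two_pos hj))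
      simp [this, show ¬ j < 5 by omega]
  · simp only [h31, Nat.testBit_and, Nat.testBit_shiftRight, Nat.testBit_two_pow_sub_one,
      Nat.testBit_xor, Nat.testBit_shiftLeft]
    rcases Nat.lt_or_ge j 5 with hj | hj
    · rcases Nat.lt_or_ge i u with hiu | hiu
      · simp [show ¬ 5 * u ≤ 5 * i + j by omega]
      · have : ((2 ^ 5 - 1) ^^^ v).testBit (5 * i + j - 5 * u) = false := by
          refine Nat.testBit_eq_false_of_lt (lt_of_lt_of_le hx ?_)
          exact Nat.pow_le_pow_right two_pos (by omega)
        simp only [Nat.testBit_xor, Nat.testBit_two_pow_sub_one] at this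
        simp [this]
    · simp [show ¬ j < 5 by omega]

/-- evaluate a number before it is substituted (keeps kernel terms small) -/
def force {α : Type} (n : ℕ) (k : ℕ → α) : α :=
  Nat.rec (motive := fun _ => (ℕ → α) → α) (fun k => k 0) (fun m _ k => k (Nat.succ m)) n k

theorem force_eq {α : Type} (n : ℕ) (k : ℕ → α) : force n k = k n := by cases n <;> rfl

/-- set `u ↔ v` -/
def assign (s u v : ℕ) : Option ℕ :=
  force (app s u) fun a => bif Nat.beq a 31 then
    force (app s v) fun c => bif Nat.beq c 31 then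
      (bif Nat.beq u v then some (put s u v) else some (put (put s u v) v u))
    else bif Nat.beq c u then some (put s u v) else none
  else bif Nat.beq a v then some s else none

theorem assign_eq (s u v : ℕ) : assign s u v =
    if app s u = 31 then
      (if app s v = 31 then (if u = v then some (put s u v) else some (put (put s u v) v u))
        else if app s v = u then some (put s u v) else none)
    else if app s u = v then some s else none := by
  simp only [assign, force_eq, Nat.beq_eq, Bool.cond_eq_ite]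

theorem assign_sound {f : ℕ → ℕ} {s u v : ℕ} (hf : Inv24 f) (hs : Ext f s) (hu : u < 24)
    (h : f u = v) : ∃ s', assign s u v = some s' ∧ Ext f s' := by
  obtain ⟨hv, hvu⟩ := hf u hu
  rw [h] at hv hvu
  rw [assign_eq]
  by_cases ha : app s u = 31
  · rw [if_pos ha]
    have e1 : Ext f (put s u v) := by
      intro i hi hne
      rw [app_put ha (by omega)] at hne ⊢
      split_ifs at hne ⊢ with hiu
      · rw [hiu, h]
      · exact hs i hi hne
    by_cases hc : app s v = 31
    · rw [if_pos hc]
      by_cases huv : u = v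
      · rw [if_pos huv]; exact ⟨_, rfl, e1⟩
      · rw [if_neg huv]
        refine ⟨_, rfl, fun i hi hne => ?_⟩
        have hc' : app (put s u v) v = 31 := by rw [app_put ha (by omega), if_neg (Ne.symm huv), hc]
        rw [app_put hc' (by omega)] at hne ⊢
        split_ifs at hne ⊢ with hiv
        · rw [hiv, hvu]
        · exact e1 i hi hne
    · rw [if_neg hc, if_pos ((hs v hv hc).trans hvu)]
      exact ⟨_, rfl, e1⟩
  · rw [if_neg ha, if_pos ((hs u hu ha).trans h)]
    exact ⟨s, rfl, hs⟩

/-- image of a position under a word `T₁, T₂, …`: apply `f`, then `T₁`, then `f`, … -/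
def wordN (f : ℕ → ℕ) : List (ℕ × ℕ) → ℕ → ℕ
  | [], x => x
  | T :: r, x => wordN f r (app T.1 (f x))

/-- a table with its inverse -/
def goodPair (T : ℕ × ℕ) : Bool :=
  validT T.1 && validT T.2 && (List.range 24).all fun i => app T.2 (app T.1 i) == i

theorem goodPair_spec {T : ℕ × ℕ} (h : goodPair T = true) :
    (∀ i < 24, app T.1 i < 24) ∧ (∀ i < 24, app T.2 i < 24) ∧
      (∀ i < 24, app T.2 (app T.1 i) = i) := by
  simp only [goodPair, Bool.and_eq_true, List.all_eq_true, List.mem_range, beq_iff_eq] at h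
  exact ⟨(validT_bijective h.1.1).2, (validT_bijective h.1.2).2, h.2⟩

/-- body of `bwd`: a looked-up entry -/
def bwdA (s : ℕ) (ih : ℕ → ℕ → Option ℕ) (a : ℕ) : Option ℕ :=
  Bool.rec (ih s a) none (Nat.beq a 31)

/-- body of `bwd`: one inverse step done -/
def bwdB (s : ℕ) (r : List ℕ) (ih : ℕ → ℕ → Option ℕ) (h : ℕ) : Option ℕ :=
  List.rec (motive := fun _ => Option ℕ) (some h) (fun _ _ _ => force (app s h) (bwdA s ih)) r

/-- walk backwards through known entries, along the inverse tables -/
def bwd : List ℕ → ℕ → ℕ → Option ℕ :=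
  List.rec (motive := fun _ => ℕ → ℕ → Option ℕ) (fun _ _ => none)
    (fun T r ih s g => force (app T g) (bwdB s r ih))

/-- the deduction at a gap -/
def gap (s x u : ℕ) (T : ℕ × List ℕ) : Option ℕ :=
  Option.rec (some s) (assign s u) (bwd T.2 s x)

/-- body of `walk`: a looked-up entry -/
def walkA (s x u : ℕ) (T : ℕ × List ℕ) (ih : ℕ → ℕ → ℕ → Option ℕ) (a : ℕ) : Option ℕ :=
  Bool.rec (force (app T.1 a) (ih s x)) (gap s x u T) (Nat.beq a 31)

/-- the end of a walk -/
def walkEnd (s x u : ℕ) : Option ℕ := Bool.rec none (some s) (Nat.beq u x)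

/-- walk forwards through a prepared word, from `u`, back to `x`; one deduction at a gap -/
def walk : List (ℕ × List ℕ) → ℕ → ℕ → ℕ → Option ℕ :=
  List.rec (motive := fun _ => ℕ → ℕ → ℕ → Option ℕ) walkEnd
    (fun T _ ih s x u => force (app s u) (walkA s x u T ih))

/-- a word together with the inverse tables of its tails -/
def prep : List (ℕ × ℕ) → List (ℕ × List ℕ)
  | [] => []
  | T :: r => (T.1, (T :: r).reverse.map Prod.snd) :: prep r

theorem bwd_single (s T g : ℕ) : bwd [T] s g = some (app T g) := by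
  show force (app T g) (bwdB s [] (bwd [])) = _
  rw [force_eq]
  rfl

theorem bool_rec_eq {α : Type} (a b : α) (m n : ℕ) :
    (Bool.rec (motive := fun _ => α) b a (Nat.beq m n)) = if m = n then a else b := by
  by_cases h : m = n
  · rw [if_pos h, h, Nat.beq_refl]
  · rw [if_neg h, Bool.eq_false_iff.2 fun e => h (Nat.eq_of_beq_eq_true e)]

theorem bwd_cons (s T U : ℕ) (r : List ℕ) (g : ℕ) : bwd (T :: U :: r) s g =
    if app s (app T g) = 31 then none else bwd (U :: r) s (app s (app T g)) := by
  show force (app T g) (bwdB s (U :: r) (bwd (U :: r))) = _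
  rw [force_eq]
  show force (app s (app T g)) (bwdA s (bwd (U :: r))) = _
  rw [force_eq, bwdA, bool_rec_eq]

theorem walk_nil (s x u : ℕ) : walk [] s x u = if u = x then some s else none := by
  show walkEnd s x u = _
  rw [walkEnd, bool_rec_eq]

theorem walk_cons (s x : ℕ) (T : ℕ × List ℕ) (r : List (ℕ × List ℕ)) (u : ℕ) :
    walk (T :: r) s x u = if app s u = 31 then
      Option.rec (some s) (fun h => assign s u h) (bwd T.2 s x)
    else walk r s x (app T.1 (app s u)) := by
  show force (app s u) (walkA s x u T (walk r)) = _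
  rw [force_eq, walkA, bool_rec_eq, force_eq]
  rfl

variable {f : ℕ → ℕ} {s : ℕ}

theorem wordN_append (w : List (ℕ × ℕ)) (T : ℕ × ℕ) : ∀ x,
    wordN f (w ++ [T]) x = app T.1 (f (wordN f w x)) := by
  induction w with
  | nil => intro x; rfl
  | cons U r ih => intro x; simp only [List.cons_append, wordN, ih]

theorem wordN_lt (hf : Inv24 f) : ∀ (w : List (ℕ × ℕ)), (∀ T ∈ w, goodPair T = true) →
    ∀ x < 24, wordN f w x < 24
  | [], _, x, hx => hx
  | T :: r, hw, x, hx =>
    wordN_lt hf r (fun T' hT' => hw T' (List.mem_cons_of_mem _ hT')) _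
      ((goodPair_spec (hw T (by simp))).1 _ (hf x hx).1)

theorem bwd_sound (hf : Inv24 f) (hs : Ext f s) :
    ∀ (w : List (ℕ × ℕ)), (∀ T ∈ w, goodPair T = true) → ∀ g < 24, ∀ x < 24,
      wordN f w.reverse x = g → ∀ h, bwd (w.map Prod.snd) s g = some h → f x = h
  | [], _, g, _, x, _, _, h, hh => by simp [bwd] at hh
  | T :: r, hw, g, hg, x, hx, he, h, hh => by
    rw [List.reverse_cons, wordN_append] at he
    obtain ⟨-, t2, t3⟩ := goodPair_spec (hw T (by simp))
    have hr : ∀ T' ∈ r.reverse, goodPair T' = true := fun T' hT' =>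
      hw T' (List.mem_cons_of_mem _ (List.mem_reverse.1 hT'))
    have hlt := wordN_lt hf r.reverse hr x hx
    have e : f (wordN f r.reverse x) = app T.2 g := by rw [← he, t3 _ (hf _ hlt).1]
    cases r with
    | nil =>
      simp only [List.map_cons, List.map_nil, bwd_single, Option.some.injEq] at hh
      simp only [List.reverse_nil, wordN] at e
      rw [e, hh]
    | cons U r' =>
      simp only [List.map_cons, bwd_cons] at hh
      by_cases h31 : app s (app T.2 g) = 31
      · simp [h31] at hh
      · rw [if_neg h31] at hh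
        have e2 : app s (app T.2 g) = wordN f (U :: r').reverse x := by
          rw [hs _ (t2 g hg) h31, ← e, (hf _ hlt).2]
        refine bwd_sound hf hs (U :: r') (fun T' hT' => hw T' (List.mem_cons_of_mem _ hT')) _ ?_ x hx
          e2.symm h hh
        rw [e2]; exact hlt

theorem walk_sound (hf : Inv24 f) (hs : Ext f s) :
    ∀ (w : List (ℕ × ℕ)), (∀ T ∈ w, goodPair T = true) → ∀ u < 24, ∀ x < 24,
      wordN f w u = x → ∃ s', walk (prep w) s x u = some s' ∧ Ext f s'
  | [], _, u, _, x, _, he => ⟨s, by rw [prep, walk_nil, if_pos (by simpa [wordN] using he)], hs⟩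
  | T :: r, hw, u, hu, x, hx, he => by
    rw [prep, walk_cons]
    by_cases h : app s u = 31
    · rw [if_pos h]
      rcases hb : bwd ((T :: r).reverse.map Prod.snd) s x with - | v
      · exact ⟨s, rfl, hs⟩
      · refine assign_sound hf hs hu ?_
        refine bwd_sound hf hs (T :: r).reverse (fun T' hT' => hw T' (List.mem_reverse.1 hT')) x hx
          u hu ?_ v hb
        rw [List.reverse_reverse, he]
    · rw [if_neg h]
      have e : app s u = f u := hs u hu h
      refine walk_sound hf hs r (fun T' hT' => hw T' (List.mem_cons_of_mem _ hT')) _ ?_ x hx ?_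
      · rw [e]; exact (goodPair_spec (hw T (by simp))).1 _ (hf u hu).1
      · rw [e]; exact he

/-- all deductions from the prepared words at the points -/
def pass : List (List (ℕ × List ℕ) × ℕ) → ℕ → Option ℕ :=
  List.rec (motive := fun _ => ℕ → Option ℕ) (fun s => some s)
    (fun j _ ih s => Option.rec none (fun s' => force s' fun s' => ih s') (walk j.1 s j.2 j.2))

/-- iterate `pass` -/
def prop (jobs : List (List (ℕ × List ℕ) × ℕ)) : ℕ → ℕ → Option ℕ :=
  Nat.rec (motive := fun _ => ℕ → Option ℕ) (fun s => some s)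
    (fun _ ih s => Option.rec none
      (fun s' => force s' fun s' => bif Nat.beq s' s then some s else ih s') (pass jobs s))

/-- the jobs for a list of words -/
def jobsOf (W : List (List (ℕ × ℕ))) : List (List (ℕ × List ℕ) × ℕ) :=
  W.flatMap fun w => (List.range 24).map fun x => (prep w, x)

/-- `f` satisfies the jobs -/
def Sat (f : ℕ → ℕ) (jobs : List (List (ℕ × List ℕ) × ℕ)) : Prop :=
  ∀ j ∈ jobs, ∃ w, j.1 = prep w ∧ (∀ T ∈ w, goodPair T = true) ∧ j.2 < 24 ∧ wordN f w j.2 = j.2

theorem pass_sound (hf : Inv24 f) : ∀ (jobs : List (List (ℕ × List ℕ) × ℕ)) (s : ℕ),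
    Sat f jobs → Ext f s → ∃ s', pass jobs s = some s' ∧ Ext f s'
  | [], s, _, hs => ⟨s, rfl, hs⟩
  | j :: r, s, hj, hs => by
    obtain ⟨w, hw, hg, hx, he⟩ := hj j (by simp)
    obtain ⟨s1, e1, hs1⟩ := walk_sound hf hs w hg _ hx _ hx he
    obtain ⟨s2, e2, hs2⟩ := pass_sound hf r s1 (fun p hp => hj p (List.mem_cons_of_mem _ hp)) hs1
    refine ⟨s2, ?_, hs2⟩
    rw [← e2]
    unfold pass
    simp only [hw, e1, force_eq]

theorem prop_sound (hf : Inv24 f) {jobs : List (List (ℕ × List ℕ) × ℕ)} (hj : Sat f jobs) :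
    ∀ (n s : ℕ), Ext f s → ∃ s', prop jobs n s = some s' ∧ Ext f s'
  | 0, s, hs => ⟨s, rfl, hs⟩
  | n + 1, s, hs => by
    obtain ⟨s1, e1, hs1⟩ := pass_sound hf jobs s hj hs
    by_cases h : s1 = s
    · refine ⟨s, ?_, hs⟩
      unfold prop
      simp only [e1, force_eq, h, Nat.beq_eq, Bool.cond_eq_ite, if_true]
    · obtain ⟨s2, e2, hs2⟩ := prop_sound hf hj n s1 hs1
      refine ⟨s2, ?_, hs2⟩
      rw [← e2]
      unfold prop
      simp only [e1, force_eq, Nat.beq_eq, Bool.cond_eq_ite, h, if_false]

/-- composition of tables, strictly evaluated -/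
def mulGo (A B : ℕ) : ℕ → ℕ → ℕ :=
  Nat.rec (motive := fun _ => ℕ → ℕ) (fun acc => acc)
    (fun n ih acc => force (Nat.add (Nat.mul acc 32) (app A (app B n))) fun a => ih a)

theorem mkTbl_succ_last : ∀ (n : ℕ) (h : ℕ → ℕ), mkTbl (n + 1) h = mkTbl n h + 32 ^ n * h n
  | 0, h => by simp [mkTbl]
  | n + 1, h => by
    rw [mkTbl, mkTbl_succ_last n (fun i => h (i + 1))]
    simp only [mkTbl, pow_succ]
    ring

theorem mulGo_eq (A B : ℕ) : ∀ n acc,
    mulGo A B n acc = acc * 32 ^ n + mkTbl n fun i => app A (app B i)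
  | 0, acc => by simp [mulGo, mkTbl]
  | n + 1, acc => by
    have : mulGo A B (n + 1) acc = mulGo A B n (acc * 32 + app A (app B n)) := by
      show (force (Nat.add (Nat.mul acc 32) (app A (app B n))) fun a => mulGo A B n a) = _
      rw [force_eq]
      rfl
    rw [this, mulGo_eq A B n, mkTbl_succ_last, pow_succ]
    ring

theorem mulGo_eq_tblMul (A B : ℕ) : mulGo A B 24 0 = tblMul A B := by
  rw [mulGo_eq, tblMul, Nat.zero_mul, Nat.zero_add]

/-- conjunction over a list, evaluated from the left -/
def allB {α : Type} (f : α → Bool) : List α → Bool :=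
  List.rec (motive := fun _ => Bool) true (fun a _ ih => bif f a then ih else false)

theorem allB_eq {α : Type} (f : α → Bool) : ∀ l : List α, allB f l = l.all f
  | [] => rfl
  | a :: r => by
    show (bif f a then allB f r else false) = _
    rw [List.all_cons, ← allB_eq f r]
    cases f a <;> rfl

/-- depth first search along a stabiliser chain -/
def search (jobs : List (List (ℕ × List ℕ) × ℕ)) (leaf : ℕ → Bool) :
    List (ℕ × List ℕ) → ℕ → ℕ → Bool :=
  List.rec (motive := fun _ => ℕ → ℕ → Bool) (fun g _ => leaf g)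
    (fun l _ ih g s => allB (fun t => Option.rec true (fun s1 => force s1 fun s1 =>
        Option.rec true (fun s2 => force s2 fun s2 => force (mulGo g t 24 0) fun g' => ih g' s2)
          (prop jobs 8 s1))
      (force (app t l.1) fun y => assign s l.1 (app g y))) l.2)

theorem search_cons (jobs : List (List (ℕ × List ℕ) × ℕ)) (leaf : ℕ → Bool) (b : ℕ) (ts : List ℕ)
    (r : List (ℕ × List ℕ)) (g s : ℕ) :
    search jobs leaf ((b, ts) :: r) g s = ts.all fun t =>
      Option.rec true (fun s1 => Option.rec true (fun s2 => search jobs leaf r (tblMul g t) s2)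
        (prop jobs 8 s1)) (assign s b (app g (app t b))) := by
  show allB (fun t => Option.rec true (fun s1 => force s1 fun s1 =>
      Option.rec true (fun s2 => force s2 fun s2 =>
        force (mulGo g t 24 0) fun g' => search jobs leaf r g' s2) (prop jobs 8 s1))
    (force (app t b) fun y => assign s b (app g y))) ts = _
  simp only [allB_eq, force_eq, mulGo_eq_tblMul]

/-- a search can be split along the second level of the chain -/
theorem search_split (jobs : List (List (ℕ × List ℕ) × ℕ)) (leaf : ℕ → Bool) (b c : ℕ)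
    (ts us : List ℕ) (r : List (ℕ × List ℕ)) (g s : ℕ)
    (h : ∀ u ∈ us, search jobs leaf ((b, ts) :: (c, [u]) :: r) g s = true) :
    search jobs leaf ((b, ts) :: (c, us) :: r) g s = true := by
  rw [search_cons, List.all_eq_true]
  intro t ht
  rcases hs1 : assign s b (app g (app t b)) with - | s1
  · rfl
  rcases hs2 : prop jobs 8 s1 with - | s2
  · simp only [hs2]
  simp only [hs2]
  rw [search_cons, List.all_eq_true]
  intro u hu
  have hu' := h u hu
  rw [search_cons, List.all_eq_true] at hu'
  have := hu' t ht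
  simp only [hs1, hs2] at this
  rw [search_cons, List.all_cons, List.all_nil, Bool.and_true] at this
  exact this

/-- the action of a permutation on positions -/
def posFun (σ : Equiv.Perm GolayPt) : ℕ → ℕ := fun i => idx (σ (pt i))

theorem inv24_posFun {σ : Equiv.Perm GolayPt} (h : σ * σ = 1) : Inv24 (posFun σ) := by
  intro i hi
  refine ⟨idx_lt _, ?_⟩
  simp only [posFun, pt_idx]
  have : σ (σ (pt i)) = pt i := DFunLike.congr_fun h (pt i)
  rw [this, idx_pt i hi]

theorem search_sound {jobs : List (List (ℕ × List ℕ) × ℕ)} {leaf : ℕ → Bool} {E : List ℕ}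
    {σ : Equiv.Perm GolayPt} (hinv : σ * σ = 1) (hj : Sat (posFun σ) jobs) :
    ∀ (L : List (ℕ × List ℕ)) (F g s : ℕ), checkChain E F L = true →
      search jobs leaf L g s = true → validT g = true → (mkPerm g)⁻¹ * σ ∈ stabGrp E F →
      Ext (posFun σ) s → ∃ g', leaf g' = true ∧ validT g' = true ∧ mkPerm g' = σ
  | [], F, g, s, hc, hsr, hg, hmem, _ => by
    rw [stabGrp_eq_bot' hc, Subgroup.mem_bot, inv_mul_eq_one] at hmem
    exact ⟨g, hsr, hg, hmem⟩
  | (b, ts) :: r, F, g, s, hc, hsr, hg, hmem, hs => by
    simp only [checkChain, Bool.and_eq_true, decide_eq_true_eq, List.all_eq_true] at hc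
    obtain ⟨⟨⟨⟨hb, hts⟩, ho⟩, -⟩, hrest⟩ := hc
    have horb := orbit_eq_of_check hb hts (eq_of_beq ho) (le_refl (stabGrp E F))
      (fun t ht => mem_stabGrp_of_inStab (hts t ht))
    have hm : ((mkPerm g)⁻¹ * σ) (pt b) ∈ MulAction.orbit (stabGrp E F) (pt b) := ⟨⟨_, hmem⟩, rfl⟩
    rw [horb, Finset.mem_coe, mem_ptSet, testBit_orbitMask] at hm
    obtain ⟨t, ht, hta⟩ := hm
    have hv : validT t = true := by
      have := hts t ht
      simp only [inStab, Bool.and_eq_true] at this
      exact validT_of_inM24 this.1.1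
    set τ := (mkPerm g)⁻¹ * σ with hτ
    have htb : mkPerm t (pt b) = τ (pt b) := by rw [mkPerm_pt hv hb, hta, pt_idx]
    have hσb : posFun σ b = app g (app t b) := by
      show idx (σ (pt b)) = _
      have : σ (pt b) = mkPerm g (mkPerm t (pt b)) := by
        rw [htb, hτ, Equiv.Perm.mul_apply, Equiv.Perm.coe_inv, Equiv.apply_symm_apply]
      rw [this, idx_mkPerm hg, idx_mkPerm hv, idx_pt b hb]
    have hf := inv24_posFun hinv
    obtain ⟨s1, e1, hs1⟩ := assign_sound hf hs hb hσb
    obtain ⟨s2, e2, hs2⟩ := prop_sound hf hj 8 s1 hs1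
    simp only [search_cons, List.all_eq_true] at hsr
    have hr := hsr t ht
    rw [e1] at hr
    simp only [e2] at hr
    obtain ⟨hv', hval'⟩ := tblMul_spec hg hv
    refine search_sound hinv hj r _ _ _ hrest hr hv' ?_ hs2
    rw [stabGrp_or E F hb]
    refine ⟨?_, ?_⟩
    · rw [hval', _root_.mul_inv_rev, mul_assoc]
      exact (stabGrp E F).mul_mem ((stabGrp E F).inv_mem (mem_stabGrp_of_inStab (hts t ht))) hmem
    · show ((mkPerm (tblMul g t))⁻¹ * σ) (pt b) = pt b
      rw [hval', _root_.mul_inv_rev, mul_assoc, ← hτ, Equiv.Perm.mul_apply, Equiv.Perm.coe_inv,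
        ← htb, Equiv.symm_apply_apply]

end Cfsg.Agent.H50
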