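/-
Automorphisms of a group `stabGrp E F` in `M₂₄` generated by an element `a` of prime order and an
involution `b`: kernel-checked certificates that bound, and compute, the outer automorphism group.
-/
import Cfsg.Agent.H50.MathieuSearch
import Cfsg.Prelude.Def_KGroupFacts

set_option autoImplicit false

namespace Cfsg.Agent.H50

open Cfsg Cfsg.Agent.Golay
open scoped Pointwise

/-- product of the pieces `x ^ k * y` -/
def wordVal {M : Type*} [Group M] (x y : M) : List ℕ → M
  | [] => 1
  | k :: r => wordVal x y r * (x ^ k * y)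

theorem map_wordVal {M N : Type*} [Group M] [Group N] {H : Type*} [FunLike H M N]
    [MonoidHomClass H M N] (f : H) (x y : M) :
    ∀ w : List ℕ, f (wordVal x y w) = wordVal (f x) (f y) w
  | [] => map_one f
  | k :: r => by rw [wordVal, wordVal, map_mul, map_mul, map_pow, map_wordVal f x y r]

/-- power of a table -/
def tblPow (T : ℕ) : ℕ → ℕ
  | 0 => idTbl
  | k + 1 => tblMul T (tblPow T k)

theorem tblPow_spec {T : ℕ} (h : validT T = true) :
    ∀ k, validT (tblPow T k) = true ∧ mkPerm (tblPow T k) = mkPerm T ^ k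
  | 0 => idTbl_spec
  | k + 1 => by
    obtain ⟨h1, h2⟩ := tblMul_spec h (tblPow_spec h k).1
    exact ⟨h1, by rw [tblPow, h2, (tblPow_spec h k).2, pow_succ']⟩

/-- a word as a list of tables -/
def wordTbl (T p : ℕ) (w : List ℕ) : List (ℕ × ℕ) := w.map fun k => (tblPow T k, tblPow T (p - k))

theorem wordN_wordTbl {T : ℕ} (hT : validT T = true) (p : ℕ) (σ : Equiv.Perm GolayPt) :
    ∀ (w : List ℕ) (x : ℕ), x < 24 →
      wordN (posFun σ) (wordTbl T p w) x = idx (wordVal (mkPerm T) σ w (pt x))
  | [], x, hx => by simp [wordTbl, wordN, wordVal, idx_pt x hx]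
  | k :: r, x, hx => by
    obtain ⟨hv, he⟩ := tblPow_spec hT k
    have hlt : app (tblPow T k) (posFun σ x) < 24 := (validT_bijective hv).2 _ (idx_lt _)
    have ih := wordN_wordTbl hT p σ r _ hlt
    simp only [wordTbl, List.map_cons, wordN] at ih ⊢
    rw [ih]
    simp only [wordVal, posFun, Equiv.Perm.mul_apply]
    rw [← he, mkPerm_apply hv]

/-- all listed words are trivial for `g` -/
def satWords (T p : ℕ) (W : List (List ℕ)) (g : ℕ) : Bool :=
  W.all fun w => (List.range 24).all fun i => wordN (app g) (wordTbl T p w) i == i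

theorem wordN_congr {f f' : ℕ → ℕ} (h : ∀ i < 24, f i = f' i) (hlt : ∀ i < 24, f i < 24) :
    ∀ (w : List (ℕ × ℕ)), (∀ T ∈ w, ∀ i < 24, app T.1 i < 24) → ∀ x < 24,
      wordN f w x = wordN f' w x
  | [], _, _, _ => rfl
  | T :: r, hw, x, hx => by
    simp only [wordN]
    rw [← h x hx]
    exact wordN_congr h hlt r (fun T' hT' => hw T' (List.mem_cons_of_mem _ hT')) _
      (hw T (by simp) _ (hlt x hx))

theorem satWords_iff {T g : ℕ} (hT : validT T = true) (hg : validT g = true) (p : ℕ)
    (W : List (List ℕ)) :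
    satWords T p W g = true ↔ ∀ w ∈ W, wordVal (mkPerm T) (mkPerm g) w = 1 := by
  simp only [satWords, List.all_eq_true, List.mem_range, beq_iff_eq]
  refine forall₂_congr fun w _ => ?_
  have key : ∀ i < 24, wordN (app g) (wordTbl T p w) i = idx (wordVal (mkPerm T) (mkPerm g) w (pt i)) := by
    intro i hi
    rw [← wordN_wordTbl hT p (mkPerm g) w i hi]
    refine wordN_congr (fun j hj => ?_) (validT_bijective hg).2 _ ?_ i hi
    · rw [posFun, mkPerm_pt hg hj, idx_pt _ ((validT_bijective hg).2 j hj)]
    · intro U hU j hj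
      simp only [wordTbl, List.mem_map] at hU
      obtain ⟨k, -, rfl⟩ := hU
      exact (validT_bijective (tblPow_spec hT k).1).2 j hj
  constructor
  · intro h
    ext q : 1
    have := h (idx q) (idx_lt q)
    rw [key _ (idx_lt q), pt_idx] at this
    rw [Equiv.Perm.one_apply]
    exact idx_injective this
  · intro h i hi
    rw [key i hi, h, Equiv.Perm.one_apply, idx_pt i hi]

/-- conjugates `T ^ j * B * T ^ (p - j)` -/
def conjList (T p : ℕ) (bs : List ℕ) : List ℕ :=
  bs.flatMap fun B => (List.range p).map fun j => tblMul (tblMul (tblPow T j) B) (tblPow T (p - j))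

/-- a leaf is harmless -/
def leafOK (T p : ℕ) (W : List (List ℕ)) (sols : List ℕ) (g : ℕ) : Bool :=
  (pass (jobsOf (W.map (wordTbl T p))) g).isNone || sols.any (tblEq g) ||
    !(tblEq (tblMul g g) idTbl)

/-- starting tables: the fixed points and one more pair -/
def initTbl (F : ℕ) (uv : ℕ × ℕ) : Option ℕ :=
  ((List.range 24).filter fun i => F.testBit i).foldl
    (fun s i => s.bind fun s => assign s i i) (assign undefTbl uv.1 uv.2)

/-- the search from all starting pairs -/
def checkSearch (F T p : ℕ) (P W : List (List ℕ)) (sols : List ℕ) (L : List (ℕ × List ℕ))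
    (starts : List (ℕ × ℕ)) : Bool :=
  (W.all fun w => (wordTbl T p w).all goodPair) && (P.all W.contains) && starts.all fun uv =>
    uv.1 < 24 && match initTbl F uv with
      | none => true
      | some s => match prop (jobsOf (P.map (wordTbl T p))) 8 s with
        | none => true
        | some s' => search (jobsOf (P.map (wordTbl T p))) (leafOK T p W sols) L idTbl s'

theorem ext_undefTbl (f : ℕ → ℕ) : Ext f undefTbl := by
  intro i hi h
  exact absurd (app_mkTbl hi fun _ _ => by norm_num) h

/-- a search can be checked piece by piece along the second level of the chain -/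
theorem checkSearch_split {F T p : ℕ} {P W : List (List ℕ)} {sols : List ℕ} {b c : ℕ} {ts us : List ℕ}
    {r : List (ℕ × List ℕ)} {starts : List (ℕ × ℕ)} (hne : us ≠ [])
    (h : ∀ u ∈ us, checkSearch F T p P W sols ((b, ts) :: (c, [u]) :: r) starts = true) :
    checkSearch F T p P W sols ((b, ts) :: (c, us) :: r) starts = true := by
  obtain ⟨u0, hu0⟩ := List.exists_mem_of_ne_nil us hne
  have h0 := h u0 hu0
  simp only [checkSearch, Bool.and_eq_true, List.all_eq_true, decide_eq_true_eq] at h h0 ⊢
  refine ⟨h0.1, fun uv huv => ⟨(h0.2 uv huv).1, ?_⟩⟩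
  rcases he : initTbl F uv with - | s
  · rfl
  rcases hp : prop (jobsOf (P.map (wordTbl T p))) 8 s with - | s'
  · simp only [hp]
  simp only [hp]
  refine search_split _ _ _ _ _ _ _ _ _ fun u hu => ?_
  have := ((h u hu).2 uv huv).2
  simpa only [he, hp] using this

theorem checkSearch_sound {E : List ℕ} {F T p : ℕ} {P W : List (List ℕ)} {sols : List ℕ}
    {L : List (ℕ × List ℕ)} {starts : List (ℕ × ℕ)} (hL : checkChain E F L = true)
    (hT : validT T = true) (hsols : ∀ g ∈ sols, validT g = true)
    (hc : checkSearch F T p P W sols L starts = true) {σ : Equiv.Perm GolayPt}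
    (hσ : σ ∈ stabGrp E F) (hinv : σ * σ = 1) (hW : ∀ w ∈ W, wordVal (mkPerm T) σ w = 1)
    {uv : ℕ × ℕ} (huv : uv ∈ starts) (hst : posFun σ uv.1 = uv.2) :
    ∃ g ∈ sols, σ = mkPerm g := by
  simp only [checkSearch, Bool.and_eq_true, List.all_eq_true, List.contains_iff_mem,
    decide_eq_true_eq] at hc
  obtain ⟨⟨hgood, hP⟩, hs⟩ := hc
  obtain ⟨hu, hs⟩ := hs uv huv
  have hf := inv24_posFun hinv
  have hsat : ∀ V : List (List ℕ), (∀ w ∈ V, w ∈ W) →
      Sat (posFun σ) (jobsOf (V.map (wordTbl T p))) := by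
    intro V hV q hq
    simp only [jobsOf, List.mem_flatMap, List.mem_map, List.mem_range] at hq
    obtain ⟨_, ⟨w, hw, rfl⟩, x, hx, rfl⟩ := hq
    refine ⟨wordTbl T p w, rfl, hgood w (hV w hw), hx, ?_⟩
    rw [wordN_wordTbl hT p σ w x hx, hW w (hV w hw), Equiv.Perm.one_apply, idx_pt x hx]
  have hj := hsat P hP
  obtain ⟨s0, e0, hs0⟩ := assign_sound hf (ext_undefTbl _) hu hst
  have hfold : ∀ (l : List ℕ), (∀ i ∈ l, i < 24 ∧ posFun σ i = i) → ∀ s, Ext (posFun σ) s →
      ∃ s', l.foldl (fun s i => s.bind fun s => assign s i i) (some s) = some s' ∧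
        Ext (posFun σ) s' := by
    intro l
    induction l with
    | nil => exact fun _ s hs => ⟨s, rfl, hs⟩
    | cons i r ih =>
      intro hl s hs
      obtain ⟨s1, e1, hs1⟩ := assign_sound hf hs (hl i (by simp)).1 (hl i (by simp)).2
      obtain ⟨s2, e2, hs2⟩ := ih (fun j hj => hl j (List.mem_cons_of_mem _ hj)) s1 hs1
      exact ⟨s2, by rw [List.foldl_cons, Option.bind_some, e1, e2], hs2⟩
  obtain ⟨s1, e1, hs1⟩ := hfold ((List.range 24).filter fun i => F.testBit i) (fun i hi => by
    simp only [List.mem_filter, List.mem_range] at hi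
    refine ⟨hi.1, ?_⟩
    rw [posFun, hσ.2.2 (pt i) (by rw [mem_ptSet, idx_pt i hi.1]; exact hi.2), idx_pt i hi.1]) s0 hs0
  obtain ⟨s2, e2, hs2⟩ := prop_sound hf hj 8 s1 hs1
  unfold initTbl at hs
  rw [e0, e1] at hs
  simp only [e2] at hs
  obtain ⟨g, hg, hgv, hgσ⟩ := search_sound hinv hj L F idTbl s2 hL hs idTbl_spec.1
    (by rw [idTbl_spec.2, inv_one, one_mul]; exact hσ) hs2
  simp only [leafOK, Bool.or_eq_true, List.any_eq_true, Bool.not_eq_true'] at hg
  rcases hg with (hg | ⟨g', hg', he⟩) | hg
  · have hext : Ext (posFun σ) g := fun i hi _ => by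
      rw [posFun, ← hgσ, idx_mkPerm hgv, idx_pt i hi]
    obtain ⟨s', e', -⟩ := pass_sound hf _ g (hsat W fun w hw => hw) hext
    rw [e'] at hg
    simp at hg
  · exact ⟨g', hg', by rw [← hgσ]; exact mkPerm_eq_of_tblEq hgv (hsols g' hg') he⟩
  · rw [Bool.eq_false_iff] at hg
    refine absurd ?_ hg
    obtain ⟨h1, h2⟩ := tblMul_spec hgv hgv
    rw [hgσ, hinv] at h2
    rw [tblEq, List.all_eq_true]
    intro i hi
    rw [List.mem_range] at hi
    rw [beq_iff_eq, idTbl, app_mkTbl (f := id) hi (fun j hj => show j < 32 by omega), ← idx_pt i hi,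
      ← idx_mkPerm h1, h2, Equiv.Perm.one_apply, idx_pt i hi, id]

/-- every pair `x ∈ S`, `y ∉ S` in the same cell can be moved onto a starting pair -/
def checkMove (E : List ℕ) (F T p S : ℕ) (starts : List (ℕ × ℕ)) : Bool :=
  ((List.range 24).all fun x => !S.testBit x || S.testBit (app T x)) &&
  (List.range 24).all fun x => !S.testBit x || (List.range 24).all fun y =>
    !(cellOf (fixedSets E F) x).testBit y || S.testBit y || F.testBit y ||
      (List.range p).any fun j => starts.contains (app (tblPow T j) x, app (tblPow T j) y)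

/-- for every `x` in `S` some power moves `(x, x)` onto a starting pair -/
def checkFix (F T p : ℕ) (starts : List (ℕ × ℕ)) : Bool :=
  (List.range 24).all fun x => F.testBit x ||
    (List.range p).any fun j => starts.contains (app (tblPow T j) x, app (tblPow T j) x)

/-- some power of `T` moves an assignment of `σ` onto a starting pair -/
def HasStart (T : ℕ) (starts : List (ℕ × ℕ)) (σ : Equiv.Perm GolayPt) : Prop :=
  ∃ j, ∃ uv ∈ starts, posFun (mkPerm T ^ j * σ * (mkPerm T ^ j)⁻¹) uv.1 = uv.2

theorem hasStart_of_pow {T : ℕ} (hT : validT T = true) {σ : Equiv.Perm GolayPt} {x : ℕ} (hx : x < 24)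
    {j : ℕ} {starts : List (ℕ × ℕ)}
    (h : (app (tblPow T j) x, app (tblPow T j) (posFun σ x)) ∈ starts) : HasStart T starts σ := by
  refine ⟨j, _, h, ?_⟩
  obtain ⟨hv, he⟩ := tblPow_spec hT j
  have e : pt (app (tblPow T j) x) = (mkPerm T ^ j) (pt x) := by rw [← he, mkPerm_pt hv hx]
  show idx ((mkPerm T ^ j * σ * (mkPerm T ^ j)⁻¹) (pt (app (tblPow T j) x))) = _
  rw [e, Equiv.Perm.mul_apply, Equiv.Perm.mul_apply, Equiv.Perm.coe_inv, Equiv.symm_apply_apply,
    ← he, idx_mkPerm hv]
  rfl

theorem hasStart_of_move {E : List ℕ} {F T p S : ℕ} {starts : List (ℕ × ℕ)}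
    (hc : checkMove E F T p S starts = true) (hT : validT T = true)
    {σ : Equiv.Perm GolayPt} (hσ : σ ∈ stabGrp E F) (hinv : σ * σ = 1)
    (hgen : stabGrp E F = Subgroup.closure {mkPerm T, σ})
    {t i : ℕ} (ht : inStab E F t = true) (hi : i < 24) (hiS : S.testBit i = true)
    (htS : S.testBit (app t i) = false) : HasStart T starts σ := by
  simp only [checkMove, Bool.and_eq_true, List.all_eq_true, List.mem_range, Bool.or_eq_true,
    Bool.not_eq_true', List.any_eq_true, List.contains_iff_mem] at hc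
  obtain ⟨hTS, hmove⟩ := hc
  by_cases hex : ∃ x < 24, S.testBit x = true ∧ S.testBit (posFun σ x) = false
  · obtain ⟨x, hx, hxS, hyS⟩ := hex
    have hy : posFun σ x < 24 := idx_lt _
    rcases hmove x hx with h | h
    · rw [hxS] at h; exact absurd h (by simp)
    · rcases h _ hy with ((h | h) | h) | ⟨j, -, hj⟩
      · rw [posFun, testBit_cellOf (fun o ho => smul_fixedSets hσ ho) hx] at h
        exact absurd h (by simp)
      · rw [hyS] at h; exact absurd h (by simp)
      · exfalso
        have hfix := hσ.2.2 (σ (pt x)) (by rw [mem_ptSet]; exact h)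
        have hxx : σ (σ (pt x)) = pt x := DFunLike.congr_fun hinv (pt x)
        rw [hxx] at hfix
        have hxy : posFun σ x = x := by rw [posFun, ← hfix, idx_pt x hx]
        rw [hxy] at hyS
        rw [hxS] at hyS
        exact absurd hyS (by simp)
      · exact hasStart_of_pow hT hx hj
  · exfalso
    push Not at hex
    have hinvS : stabGrp E F ≤ MulAction.stabilizer (Equiv.Perm GolayPt) (ptSet S) := by
      rw [hgen, Subgroup.closure_le]
      have key : ∀ τ : Equiv.Perm GolayPt, (∀ x < 24, S.testBit x = true → S.testBit (idx (τ (pt x))) = true) →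
          τ • ptSet S = ptSet S := by
        intro τ h
        refine Finset.eq_of_subset_of_card_le (fun q hq => ?_) (by rw [Finset.card_smul_finset])
        rw [Finset.mem_smul_finset] at hq
        obtain ⟨q', hq', rfl⟩ := hq
        rw [mem_ptSet] at hq' ⊢
        have := h (idx q') (idx_lt q') hq'
        rwa [pt_idx] at this
      rintro τ (rfl | rfl)
      · refine key _ fun x hx hxS => ?_
        rw [mkPerm_pt hT hx, idx_pt _ ((validT_bijective hT).2 x hx)]
        rcases hTS x hx with h | h
        · rw [hxS] at h; exact absurd h (by simp)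
        · exact h
      · exact key _ fun x hx hxS => by simpa [posFun] using hex x hx hxS
    have hv : validT t = true := by
      simp only [inStab, Bool.and_eq_true] at ht
      exact validT_of_inM24 ht.1.1
    have h1 := hinvS (mem_stabGrp_of_inStab ht)
    rw [MulAction.mem_stabilizer_iff] at h1
    have h2 : mkPerm t • pt i ∈ ptSet S := by
      rw [← h1]
      exact Finset.smul_mem_smul_finset (by rw [mem_ptSet, idx_pt i hi]; exact hiS)
    rw [Equiv.Perm.smul_def, mem_ptSet, idx_mkPerm hv, idx_pt i hi, htS] at h2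
    exact absurd h2 (by simp)

theorem hasStart_of_fix {E : List ℕ} {F T p : ℕ} {starts : List (ℕ × ℕ)}
    (hc : checkFix F T p starts = true) (hT : validT T = true)
    {σ : Equiv.Perm GolayPt} (hσ : σ ∈ stabGrp E F) (hne : σ.support.card ≠ 24 - popCnt F) :
    HasStart T starts σ := by
  simp only [checkFix, List.all_eq_true, List.mem_range, Bool.or_eq_true, List.any_eq_true,
    List.contains_iff_mem] at hc
  by_cases hex : ∃ x < 24, F.testBit x = false ∧ posFun σ x = x
  · obtain ⟨x, hx, hxF, hfx⟩ := hex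
    rcases hc x hx with h | ⟨j, -, hj⟩
    · rw [hxF] at h; exact absurd h (by simp)
    · exact hasStart_of_pow hT hx (by rw [hfx]; exact hj)
  · exfalso
    push Not at hex
    have hsupp : σ.support = (ptSet F)ᶜ := by
      ext q
      rw [Equiv.Perm.mem_support, Finset.mem_compl]
      refine ⟨fun h hq => h (hσ.2.2 q hq), fun hq h => ?_⟩
      rw [mem_ptSet, Bool.not_eq_true] at hq
      exact hex (idx q) (idx_lt q) hq (by rw [posFun, pt_idx, h])
    refine hne ?_
    rw [hsupp, Finset.card_compl, card_ptSet]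
    rfl

theorem two_cycles {σ : Equiv.Perm GolayPt} (hinv : σ * σ = 1) :
    σ.cycleType = Multiset.replicate σ.cycleType.card 2 := by
  refine Multiset.eq_replicate_card.2 fun n hn => ?_
  have h := Equiv.Perm.dvd_of_mem_cycleType hn
  have ho : orderOf σ ∣ 2 := orderOf_dvd_of_pow_eq_one (by rw [sq, hinv])
  rcases (Nat.dvd_prime Nat.prime_two).1 (h.trans ho) with h1 | h1
  · have := Equiv.Perm.two_le_of_mem_cycleType hn; omega
  · exact h1

theorem support_ne_of_odd {σ : Equiv.Perm GolayPt} (hinv : σ * σ = 1) {n : ℕ} (hn : Odd n) :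
    σ.support.card ≠ n := by
  rintro rfl
  rw [← Equiv.Perm.sum_cycleType, two_cycles hinv, Multiset.sum_replicate, smul_eq_mul] at hn
  exact Nat.not_even_iff_odd.2 hn ⟨σ.cycleType.card, by ring⟩

theorem support_ne_of_word {a σ : Equiv.Perm GolayPt} (hinv : σ * σ = 1) {p : ℕ} (hp : Odd p)
    (ha : a ^ p = 1) {w : List ℕ} (hw : Odd w.length) (hval : wordVal a σ w = 1) {n : ℕ}
    (hn : n % 4 = 2) : σ.support.card ≠ n := by
  intro hsn
  have hsa : Equiv.Perm.sign a = 1 := by
    have h := congrArg Equiv.Perm.sign ha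
    rw [map_pow, map_one] at h
    rcases Int.units_eq_one_or (Equiv.Perm.sign a) with e | e
    · exact e
    · rw [e, hp.neg_one_pow] at h; exact absurd h (by decide)
  have hsw : ∀ v : List ℕ, Equiv.Perm.sign (wordVal a σ v) = Equiv.Perm.sign σ ^ v.length := by
    intro v
    induction v with
    | nil => simp [wordVal]
    | cons k r ih => rw [wordVal, map_mul, map_mul, map_pow, hsa, one_pow, one_mul, ih, List.length_cons, pow_succ]
  have h1 : Equiv.Perm.sign σ = 1 := by
    have h := hsw w
    rw [hval, map_one] at h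
    rcases Int.units_eq_one_or (Equiv.Perm.sign σ) with e | e
    · exact e
    · rw [e, hw.neg_one_pow] at h; exact absurd h (by decide)
  rw [← Equiv.Perm.sum_cycleType, two_cycles hinv, Multiset.sum_replicate, smul_eq_mul] at hsn
  rw [Equiv.Perm.sign_of_cycleType, two_cycles hinv, Multiset.sum_replicate, Multiset.card_replicate,
    smul_eq_mul, Odd.neg_one_pow ⟨3 * (σ.cycleType.card / 2) + 1, by omega⟩] at h1
  exact absurd h1 (by decide)

/-- all conjugates under powers of `T` of the solutions are accounted for -/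
theorem exists_conj_of_search {E : List ℕ} {F T p : ℕ} {P W : List (List ℕ)} {bs : List ℕ}
    {L : List (ℕ × List ℕ)} {starts : List (ℕ × ℕ)} (hL : checkChain E F L = true)
    (hT : inStab E F T = true) (hord : mkPerm T ^ p = 1) (hbs : ∀ B ∈ bs, validT B = true)
    (hc : checkSearch F T p P W (conjList T p bs) L starts = true) {σ : Equiv.Perm GolayPt}
    (hσ : σ ∈ stabGrp E F) (hinv : σ * σ = 1) (hW : ∀ w ∈ W, wordVal (mkPerm T) σ w = 1)
    (hs : HasStart T starts σ) :
    ∃ B ∈ bs, ∃ c ∈ Subgroup.zpowers (mkPerm T), σ = c * mkPerm B * c⁻¹ := by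
  have hv : validT T = true := by
    simp only [inStab, Bool.and_eq_true] at hT
    exact validT_of_inM24 hT.1.1
  obtain ⟨j, uv, huv, hst⟩ := hs
  set c := mkPerm T ^ j with hcdef
  have hcG : c ∈ stabGrp E F := Subgroup.pow_mem _ (mem_stabGrp_of_inStab hT) j
  have hconjW : ∀ w ∈ W, wordVal (mkPerm T) (c * σ * c⁻¹) w = 1 := by
    intro w hw
    have := map_wordVal (MulAut.conj c) (mkPerm T) σ w
    rw [hW w hw, map_one, MulAut.conj_apply, MulAut.conj_apply] at this
    have e : c * mkPerm T * c⁻¹ = mkPerm T := by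
      rw [hcdef, mul_inv_eq_iff_eq_mul, ← pow_succ, ← pow_succ']
    rw [e] at this
    exact this.symm
  have hsols : ∀ g ∈ conjList T p bs, validT g = true := by
    intro g hg
    simp only [conjList, List.mem_flatMap, List.mem_map, List.mem_range] at hg
    obtain ⟨B, hB, i, -, rfl⟩ := hg
    exact (tblMul_spec (tblMul_spec (tblPow_spec hv i).1 (hbs B hB)).1 (tblPow_spec hv _).1).1
  obtain ⟨g, hg, hgσ⟩ := checkSearch_sound hL hv hsols hc
    ((stabGrp E F).mul_mem ((stabGrp E F).mul_mem hcG hσ) ((stabGrp E F).inv_mem hcG))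
    (by rw [show c * σ * c⁻¹ * (c * σ * c⁻¹) = c * (σ * σ) * c⁻¹ by group, hinv, mul_one, mul_inv_cancel])
    hconjW huv hst
  simp only [conjList, List.mem_flatMap, List.mem_map, List.mem_range] at hg
  obtain ⟨B, hB, i, hi, rfl⟩ := hg
  refine ⟨B, hB, c⁻¹ * mkPerm T ^ i, Subgroup.mul_mem _ (Subgroup.inv_mem _ (Subgroup.pow_mem _
    (Subgroup.mem_zpowers _) j)) (Subgroup.pow_mem _ (Subgroup.mem_zpowers _) i), ?_⟩
  obtain ⟨h1, h2⟩ := tblMul_spec (tblPow_spec hv i).1 (hbs B hB)
  rw [(tblMul_spec h1 (tblPow_spec hv _).1).2, h2, (tblPow_spec hv i).2, (tblPow_spec hv _).2] at hgσ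
  have e : mkPerm T ^ (p - i) = (mkPerm T ^ i)⁻¹ :=
    eq_inv_of_mul_eq_one_left (by rw [← pow_add, Nat.sub_add_cancel hi.le, hord])
  rw [e] at hgσ
  calc σ = c⁻¹ * (c * σ * c⁻¹) * c := by group
    _ = _ := by rw [hgσ]; group

end Cfsg.Agent.H50
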