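/-
Outer automorphisms of `stabGrp E F` from a checked certificate.
-/
import Cfsg.Agent.H50.MathieuAut

set_option autoImplicit false

namespace Cfsg.Agent.H50

open Cfsg Cfsg.Agent.Golay
open scoped Pointwise

/-- basic certificate: generators, prime, conjugators of the powers -/
def checkBase (E : List ℕ) (F : ℕ) (L : List (ℕ × List ℕ)) (ta tb p : ℕ) (W : List (List ℕ))
    (hs : List ℕ) (prog : List (ℕ × ℕ × ℕ)) : Bool :=
  inStab E F ta && inStab E F tb && tblEq (tblMul tb tb) idTbl && tblEq (tblPow ta p) idTbl &&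
    !tblEq ta idTbl && (chainCard L % p == 0) && !(chainCard L / p % p == 0) &&
    satWords ta p W tb && checkSLP [ta, tb, idTbl] prog &&
    (L.all fun l => l.2.all fun t => ([ta, tb, idTbl] ++ prog.map fun n => n.1).contains t) &&
    (List.range (p - 1)).all fun k =>
      inStab E F (hs.getD k 0) &&
        (tblEq (tblMul (hs.getD k 0) ta) (tblMul (tblPow ta (k + 1)) (hs.getD k 0)) ||
          tblEq (tblMul (hs.getD k 0) (tblPow ta (p - 1))) (tblMul (tblPow ta (k + 1)) (hs.getD k 0)))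

/-- what the searches deliver -/
def Cand (E : List ℕ) (F T : ℕ) (W : List (List ℕ)) (bs : List ℕ) : Prop :=
  ∀ σ ∈ stabGrp E F, σ * σ = 1 → (∀ w ∈ W, wordVal (mkPerm T) σ w = 1) →
    stabGrp E F = Subgroup.closure {mkPerm T, σ} →
    ∃ B ∈ bs, ∃ c ∈ Subgroup.zpowers (mkPerm T), σ = c * mkPerm B * c⁻¹

theorem eq_of_tblEq_mul {A B C D : ℕ} (hA : validT A = true) (hB : validT B = true)
    (hC : validT C = true) (hD : validT D = true) (h : tblEq (tblMul A B) (tblMul C D) = true) :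
    mkPerm A * mkPerm B = mkPerm C * mkPerm D := by
  rw [← (tblMul_spec hA hB).2, ← (tblMul_spec hC hD).2]
  exact mkPerm_eq_of_tblEq (tblMul_spec hA hB).1 (tblMul_spec hC hD).1 h

theorem validT_of_inStab {E : List ℕ} {F t : ℕ} (h : inStab E F t = true) : validT t = true := by
  simp only [inStab, Bool.and_eq_true] at h
  exact validT_of_inM24 h.1.1

variable {E : List ℕ} {F : ℕ} {L : List (ℕ × List ℕ)} {ta tb p : ℕ} {W : List (List ℕ)}
  {hs : List ℕ} {prog : List (ℕ × ℕ × ℕ)}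

/-- the facts contained in the basic certificate -/
structure BaseFacts (E : List ℕ) (F ta tb p : ℕ) (W : List (List ℕ)) (hs : List ℕ) : Prop where
  va : validT ta = true
  vb : validT tb = true
  ma : mkPerm ta ∈ stabGrp E F
  mb : mkPerm tb ∈ stabGrp E F
  bsq : mkPerm tb * mkPerm tb = 1
  apow : mkPerm ta ^ p = 1
  ane : mkPerm ta ≠ 1
  words : ∀ w ∈ W, wordVal (mkPerm ta) (mkPerm tb) w = 1
  gen : stabGrp E F = Subgroup.closure {mkPerm ta, mkPerm tb}
  dvd : p ∣ Nat.card (stabGrp E F)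
  exact_dvd : ¬ p ∣ Nat.card (stabGrp E F) / p
  powers : ∀ k, 0 < k → k < p → ∃ h ∈ stabGrp E F,
    h * mkPerm ta * h⁻¹ = mkPerm ta ^ k ∨ h * (mkPerm ta)⁻¹ * h⁻¹ = mkPerm ta ^ k

theorem baseFacts (hL : checkChain E F L = true) (hp : p.Prime)
    (h : checkBase E F L ta tb p W hs prog = true) : BaseFacts E F ta tb p W hs := by
  simp only [checkBase, Bool.and_eq_true, Bool.not_eq_true', beq_iff_eq, List.all_eq_true,
    List.mem_range, Bool.or_eq_true] at h
  obtain ⟨⟨⟨⟨⟨⟨⟨⟨⟨⟨h1, h2⟩, h3⟩, h4⟩, h5⟩, h6⟩, h7⟩, h8⟩, h9⟩, h10⟩, h11⟩ := h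
  have va := validT_of_inStab h1
  have vb := validT_of_inStab h2
  have hbb : mkPerm tb * mkPerm tb = 1 := by
    rw [← (tblMul_spec vb vb).2, mkPerm_eq_of_tblEq (tblMul_spec vb vb).1 idTbl_spec.1 h3, idTbl_spec.2]
  have hap : mkPerm ta ^ p = 1 := by
    rw [← (tblPow_spec va p).2, mkPerm_eq_of_tblEq (tblPow_spec va p).1 idTbl_spec.1 h4, idTbl_spec.2]
  have hane : mkPerm ta ≠ 1 := by
    intro e
    rw [Bool.eq_false_iff] at h5
    refine h5 ?_
    rw [tblEq, List.all_eq_true]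
    intro i hi
    rw [List.mem_range] at hi
    rw [beq_iff_eq, ← idx_pt i hi, ← idx_mkPerm va, e, ← idx_mkPerm idTbl_spec.1, idTbl_spec.2]
  refine ⟨va, vb, mem_stabGrp_of_inStab h1, mem_stabGrp_of_inStab h2, hbb, hap, hane,
    (satWords_iff va vb p W).1 h8, ?_, ?_, ?_, ?_⟩
  · refine (eq_stabGrp_of_mem hL ?_ fun l hl t ht => ?_).symm
    · rw [Subgroup.closure_le]
      rintro x (rfl | rfl)
      exacts [mem_stabGrp_of_inStab h1, mem_stabGrp_of_inStab h2]
    · refine (checkSLP_mem _ _ h9 ?_ t (List.contains_iff_mem.1 (h10 l hl t ht))).2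
      intro A hA
      simp only [List.mem_cons, List.not_mem_nil, or_false] at hA
      rcases hA with rfl | rfl | rfl
      · exact ⟨va, Subgroup.subset_closure (by simp)⟩
      · exact ⟨vb, Subgroup.subset_closure (by simp)⟩
      · exact ⟨idTbl_spec.1, by rw [idTbl_spec.2]; exact one_mem _⟩
  · rw [card_stabGrp hL]; exact Nat.dvd_of_mod_eq_zero h6
  · rw [card_stabGrp hL]
    intro hd
    rw [Nat.mod_eq_zero_of_dvd hd] at h7
    simp at h7
  · intro k hk0 hkp
    obtain ⟨j, rfl⟩ : ∃ j, k = j + 1 := ⟨k - 1, by omega⟩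
    obtain ⟨hh, hc⟩ := h11 j (by omega)
    have vh := validT_of_inStab hh
    obtain ⟨vk, ek⟩ := tblPow_spec va (j + 1)
    refine ⟨_, mem_stabGrp_of_inStab hh, ?_⟩
    rcases hc with hc | hc
    · left
      rw [mul_inv_eq_iff_eq_mul, ← ek]
      exact eq_of_tblEq_mul vh va vk vh hc
    · right
      obtain ⟨vi, ei⟩ := tblPow_spec va (p - 1)
      have e : mkPerm ta ^ (p - 1) = (mkPerm ta)⁻¹ :=
        eq_inv_of_mul_eq_one_left (by rw [← pow_succ, Nat.sub_add_cancel hp.one_lt.le, hap])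
      rw [mul_inv_eq_iff_eq_mul, ← ek, ← e, ← ei]
      exact eq_of_tblEq_mul vh vi vk vh hc

namespace BaseFacts

variable (hB : BaseFacts E F ta tb p W hs)

include hB in
theorem orderOf_a (hp : p.Prime) : orderOf (mkPerm ta) = p := by
  have := Fact.mk hp
  exact orderOf_eq_prime hB.apow hB.ane

include hB in
/-- every element of order `p` is conjugate to `a` or `a⁻¹` -/
theorem conj_a (hp : p.Prime) {x : Equiv.Perm GolayPt} (hx : x ∈ stabGrp E F) (ho : orderOf x = p) :
    ∃ c ∈ stabGrp E F, x = c * mkPerm ta * c⁻¹ ∨ x = c * (mkPerm ta)⁻¹ * c⁻¹ := by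
  have := Fact.mk hp
  let G := stabGrp E F
  let a' : G := ⟨mkPerm ta, hB.ma⟩
  let x' : G := ⟨x, hx⟩
  have ha' : orderOf a' = p := by rw [← Subgroup.orderOf_coe]; exact hB.orderOf_a hp
  have hx' : orderOf x' = p := by rw [← Subgroup.orderOf_coe]; exact ho
  have hfac : (Nat.card G).factorization p = 1 := by
    obtain ⟨k, hk⟩ := hB.dvd
    have hne := hB.exact_dvd
    change Nat.card G = p * k at hk
    change ¬ p ∣ Nat.card G / p at hne
    rw [hk, Nat.mul_div_cancel_left _ hp.pos] at hne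
    have hk0 : k ≠ 0 := fun h => hne (h ▸ dvd_zero p)
    rw [hk, Nat.factorization_mul hp.ne_zero hk0, Finsupp.add_apply, hp.factorization_self,
      Nat.factorization_eq_zero_of_not_dvd hne]
  have hcard : ∀ y : G, orderOf y = p → Nat.card (Subgroup.zpowers y) = p ^ (Nat.card G).factorization p := by
    intro y hy; rw [Nat.card_zpowers, hy, hfac, pow_one]
  let P := Sylow.ofCard (Subgroup.zpowers a') (hcard a' ha')
  let Q := Sylow.ofCard (Subgroup.zpowers x') (hcard x' hx')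
  obtain ⟨g, hg⟩ := MulAction.exists_smul_eq G P Q
  have hmem : x' ∈ ((g • P : Sylow p G) : Subgroup G) := by
    rw [hg, Sylow.coe_ofCard]; exact Subgroup.mem_zpowers x'
  rw [Sylow.coe_subgroup_smul, Sylow.coe_ofCard, Subgroup.mem_pointwise_smul_iff_inv_smul_mem,
    ← mem_powers_iff_mem_zpowers] at hmem
  obtain ⟨k, hk⟩ := hmem
  simp only [MulAut.smul_def, ← map_inv, MulAut.conj_apply, inv_inv] at hk
  have hkk : a' ^ (k % p) = g⁻¹ * x' * g := by
    rw [← ha', pow_mod_orderOf]; exact hk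
  have hxg : x' = g * a' ^ (k % p) * g⁻¹ := by rw [hkk]; group
  have hxe : x = (g : Equiv.Perm GolayPt) * mkPerm ta ^ (k % p) * (g : Equiv.Perm GolayPt)⁻¹ := by
    have := congrArg Subtype.val hxg
    simpa using this
  have hk0 : 0 < k % p := by
    by_contra h
    rw [Nat.eq_zero_of_not_pos h, pow_zero, mul_one, mul_inv_cancel] at hxe
    rw [hxe, orderOf_one] at ho
    exact hp.one_lt.ne ho
  obtain ⟨h, hh, hpow⟩ := hB.powers (k % p) hk0 (Nat.mod_lt _ hp.pos)
  refine ⟨(g : Equiv.Perm GolayPt) * h, (stabGrp E F).mul_mem g.2 hh, ?_⟩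
  rcases hpow with e | e
  · left; rw [hxe, ← e]; group
  · right; rw [hxe, ← e]; group

include hB in
theorem closure_subtype :
    Subgroup.closure {(⟨mkPerm ta, hB.ma⟩ : stabGrp E F), ⟨mkPerm tb, hB.mb⟩} = ⊤ := by
  rw [← Subgroup.map_subtype_inj, MonoidHom.map_closure, Set.image_insert_eq, Set.image_singleton,
    ← MonoidHom.range_eq_map, Subgroup.range_subtype]
  exact hB.gen.symm

include hB in
/-- two endomorphisms agreeing on `a` and `b` are equal -/
theorem ext_hom {φ ψ : MulAut (stabGrp E F)} (ha : φ ⟨mkPerm ta, hB.ma⟩ = ψ ⟨mkPerm ta, hB.ma⟩)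
    (hb : φ ⟨mkPerm tb, hB.mb⟩ = ψ ⟨mkPerm tb, hB.mb⟩) : φ = ψ := by
  have h : φ.toMonoidHom = ψ.toMonoidHom :=
    MonoidHom.eq_of_eqOn_dense hB.closure_subtype (by rintro x (rfl | rfl); exacts [ha, hb])
  exact MulEquiv.toMonoidHom_injective h

include hB in
theorem aut_cases (hp : p.Prime) {bs : List ℕ} (hpos : Cand E F ta W [tb])
    (hneg : Cand E F (tblPow ta (p - 1)) W bs) (φ : MulAut (stabGrp E F)) :
    ∃ c : stabGrp E F, φ = MulAut.conj c ∨ ∃ B ∈ bs,
      (φ ⟨mkPerm ta, hB.ma⟩ : Equiv.Perm GolayPt) = c.1 * (mkPerm ta)⁻¹ * c.1⁻¹ ∧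
      (φ ⟨mkPerm tb, hB.mb⟩ : Equiv.Perm GolayPt) = c.1 * mkPerm B * c.1⁻¹ := by
  let G := stabGrp E F
  let a' : G := ⟨mkPerm ta, hB.ma⟩
  let b' : G := ⟨mkPerm tb, hB.mb⟩
  obtain ⟨c, hc, hcase⟩ := hB.conj_a hp (φ a').2 (by
    rw [Subgroup.orderOf_coe, MulEquiv.orderOf_eq, ← Subgroup.orderOf_coe]; exact hB.orderOf_a hp)
  set σ := c⁻¹ * (φ b' : Equiv.Perm GolayPt) * c with hσdef
  have hσmem : σ ∈ G := G.mul_mem (G.mul_mem (G.inv_mem hc) (φ b').2) hc
  have hbb : b' * b' = 1 := Subtype.ext hB.bsq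
  have hσσ : σ * σ = 1 := by
    have h1 : (φ b' : Equiv.Perm GolayPt) * (φ b' : Equiv.Perm GolayPt) = 1 := by
      rw [← Subgroup.coe_mul, ← map_mul, hbb, map_one]; rfl
    rw [hσdef, show c⁻¹ * (φ b' : Equiv.Perm GolayPt) * c * (c⁻¹ * (φ b' : Equiv.Perm GolayPt) * c)
      = c⁻¹ * ((φ b' : Equiv.Perm GolayPt) * (φ b' : Equiv.Perm GolayPt)) * c by group, h1]
    group
  let κ : G →* Equiv.Perm GolayPt :=
    (MulAut.conj c⁻¹).toMonoidHom.comp (G.subtype.comp φ.toMonoidHom)
  have hκb : κ b' = σ := by simp [κ, hσdef]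
  have hκrange : κ.range = G := by
    apply le_antisymm
    · rintro x ⟨y, rfl⟩
      simp only [κ, MonoidHom.comp_apply, MulEquiv.coe_toMonoidHom, MulAut.conj_apply, inv_inv,
        Subgroup.coe_subtype]
      exact G.mul_mem (G.mul_mem (G.inv_mem hc) (φ y).2) hc
    · intro x hx
      refine ⟨φ.symm ⟨c * x * c⁻¹, G.mul_mem (G.mul_mem hc hx) (G.inv_mem hc)⟩, ?_⟩
      simp [κ]
      group
  have hwords : ∀ w ∈ W, wordVal (κ a') σ w = 1 := by
    intro w hw
    rw [← hκb, ← map_wordVal κ]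
    have e : wordVal a' b' w = 1 := Subtype.ext (by
      have := map_wordVal G.subtype a' b' w
      simp only [Subgroup.coe_subtype] at this
      rw [this, OneMemClass.coe_one]
      exact hB.words w hw)
    rw [e, map_one]
  have hgen : G = Subgroup.closure {κ a', σ} := by
    rw [← hκb, ← Set.image_singleton (f := κ), ← Set.image_insert_eq, ← MonoidHom.map_closure,
      hB.closure_subtype, ← MonoidHom.range_eq_map, hκrange]
  obtain ⟨vi, ei⟩ := tblPow_spec hB.va (p - 1)
  have ei' : mkPerm (tblPow ta (p - 1)) = (mkPerm ta)⁻¹ := by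
    rw [ei]; exact eq_inv_of_mul_eq_one_left (by rw [← pow_succ, Nat.sub_add_cancel hp.one_lt.le, hB.apow])
  have hca : ∀ d ∈ Subgroup.zpowers (mkPerm ta), d * mkPerm ta * d⁻¹ = mkPerm ta := by
    rintro d ⟨i, rfl⟩; group
  rcases hcase with hpa | hna
  · have hκa : κ a' = mkPerm ta := by
      simp only [κ, MonoidHom.comp_apply, MulEquiv.coe_toMonoidHom, MulAut.conj_apply,
        Subgroup.coe_subtype, inv_inv]
      rw [hpa]; group
    rw [hκa] at hwords hgen
    obtain ⟨B, hB', d, hd, hσd⟩ := hpos σ hσmem hσσ hwords hgen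
    rw [List.mem_singleton] at hB'
    subst hB'
    have hdG : d ∈ G := (Subgroup.zpowers_le.2 hB.ma) hd
    refine ⟨⟨c * d, G.mul_mem hc hdG⟩, Or.inl (hB.ext_hom (Subtype.ext ?_) (Subtype.ext ?_))⟩
    · simp only [MulAut.conj_apply, Subgroup.coe_mul, Subgroup.coe_inv]
      rw [hpa]
      nth_rewrite 1 [← hca d hd]
      group
    · simp only [MulAut.conj_apply, Subgroup.coe_mul, Subgroup.coe_inv]
      calc (φ b' : Equiv.Perm GolayPt) = c * σ * c⁻¹ := by rw [hσdef]; group
        _ = _ := by rw [hσd]; group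
  · have hκa : κ a' = mkPerm (tblPow ta (p - 1)) := by
      simp only [κ, MonoidHom.comp_apply, MulEquiv.coe_toMonoidHom, MulAut.conj_apply,
        Subgroup.coe_subtype, inv_inv]
      rw [hna, ei']; group
    rw [hκa] at hwords hgen
    obtain ⟨B, hB', d, hd, hσd⟩ := hneg σ hσmem hσσ hwords hgen
    rw [ei', Subgroup.zpowers_inv] at hd
    have hdG : d ∈ G := (Subgroup.zpowers_le.2 hB.ma) hd
    refine ⟨⟨c * d, G.mul_mem hc hdG⟩, Or.inr ⟨B, hB', ?_, ?_⟩⟩
    · rw [hna]
      nth_rewrite 1 [← hca d hd]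
      group
    · calc (φ b' : Equiv.Perm GolayPt) = c * σ * c⁻¹ := by rw [hσdef]; group
        _ = _ := by rw [hσd]; group

include hB in
theorem out_eq_one (hp : p.Prime) (hpos : Cand E F ta W [tb])
    (hneg : Cand E F (tblPow ta (p - 1)) W []) : Nat.card (Out (stabGrp E F)) = 1 := by
  rw [Nat.card_eq_one_iff_unique]
  refine ⟨⟨fun x y => ?_⟩, ⟨1⟩⟩
  obtain ⟨φ, rfl⟩ := QuotientGroup.mk_surjective x
  obtain ⟨ψ, rfl⟩ := QuotientGroup.mk_surjective y
  have key : ∀ χ : MulAut (stabGrp E F), χ ∈ Inn (stabGrp E F) := by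
    intro χ
    obtain ⟨c, h | ⟨B, hB', -⟩⟩ := hB.aut_cases hp hpos hneg χ
    · exact ⟨c, h.symm⟩
    · simp at hB'
  exact (QuotientGroup.eq).2 (key _)

include hB in
theorem out_eq_two (hp : p.Prime) {te B : ℕ} (hpos : Cand E F ta W [tb])
    (hneg : Cand E F (tblPow ta (p - 1)) W [B]) (vB : validT B = true)
    (mB : mkPerm B ∈ stabGrp E F) (ve : validT te = true)
    (hea : tblEq (tblMul te ta) (tblMul (tblPow ta (p - 1)) te) = true)
    (heb : tblEq (tblMul te tb) (tblMul B te) = true)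
    (hinv : ∀ c ∈ stabGrp E F, c * mkPerm ta * c⁻¹ ≠ (mkPerm ta)⁻¹) :
    Nat.card (Out (stabGrp E F)) = 2 := by
  set G := stabGrp E F with hG
  set e := mkPerm te
  obtain ⟨vi, ei⟩ := tblPow_spec hB.va (p - 1)
  have ei' : mkPerm (tblPow ta (p - 1)) = (mkPerm ta)⁻¹ := by
    rw [ei]; exact eq_inv_of_mul_eq_one_left (by rw [← pow_succ, Nat.sub_add_cancel hp.one_lt.le, hB.apow])
  have ha : e * mkPerm ta * e⁻¹ = (mkPerm ta)⁻¹ := by
    rw [mul_inv_eq_iff_eq_mul, ← ei']
    exact eq_of_tblEq_mul ve hB.va vi ve hea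
  have hb : e * mkPerm tb * e⁻¹ = mkPerm B := by
    rw [mul_inv_eq_iff_eq_mul]
    exact eq_of_tblEq_mul ve hB.vb vB ve heb
  have hmap : G.map (MulAut.conj e).toMonoidHom = G := by
    refine Subgroup.eq_of_le_of_card_ge ?_
      (Nat.card_congr (G.equivMapOfInjective _ (MulAut.conj e).injective).toEquiv).le
    rw [Subgroup.map_le_iff_le_comap]
    conv_lhs => rw [hG, hB.gen]
    rw [Subgroup.closure_le]
    rintro x (rfl | rfl)
    · show e * mkPerm ta * e⁻¹ ∈ G
      rw [ha]; exact G.inv_mem hB.ma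
    · show e * mkPerm tb * e⁻¹ ∈ G
      rw [hb]; exact mB
  let ψ : MulAut G :=
    (G.equivMapOfInjective (MulAut.conj e).toMonoidHom (MulAut.conj e).injective).trans
      (MulEquiv.subgroupCongr hmap)
  have hψ : ∀ x : G, (ψ x : Equiv.Perm GolayPt) = e * x.1 * e⁻¹ := fun x => rfl
  have hψInn : ψ ∉ Inn G := by
    rintro ⟨c, hc⟩
    have h1 := congrArg (fun χ : MulAut G => ((χ ⟨mkPerm ta, hB.ma⟩ : G) : Equiv.Perm GolayPt)) hc
    simp only [MulAut.conj_apply, Subgroup.coe_mul, Subgroup.coe_inv, hψ, ha] at h1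
    exact hinv c.1 c.2 h1
  refine Nat.card_eq_two_iff.2 ⟨(1 : Out G), QuotientGroup.mk ψ, ?_, ?_⟩
  · intro h
    exact hψInn ((QuotientGroup.eq_one_iff ψ).1 h.symm)
  · rw [Set.eq_univ_iff_forall]
    intro x
    obtain ⟨φ, rfl⟩ := QuotientGroup.mk_surjective x
    obtain ⟨c, h | ⟨B', hB', h1, h2⟩⟩ := hB.aut_cases hp hpos hneg φ
    · exact Or.inl ((QuotientGroup.eq_one_iff φ).2 ⟨c, h.symm⟩)
    · rw [List.mem_singleton] at hB'
      subst hB'
      refine Or.inr (Eq.symm ?_)
      rw [QuotientGroup.eq]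
      have hφ : φ = MulAut.conj c * ψ := by
        refine hB.ext_hom (Subtype.ext ?_) (Subtype.ext ?_)
        · rw [MulAut.mul_apply, MulAut.conj_apply]
          simp only [Subgroup.coe_mul, Subgroup.coe_inv, hψ]
          rw [h1, ha]
        · rw [MulAut.mul_apply, MulAut.conj_apply]
          simp only [Subgroup.coe_mul, Subgroup.coe_inv, hψ]
          rw [h2, hb]
      rw [hφ]
      have hn := (inferInstance : (Inn G).Normal).conj_mem' (MulAut.conj c) ⟨c, rfl⟩ ψ
      rwa [mul_assoc] at hn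

include hB in
/-- no element inverts `a`, from two searches among involutions -/
theorem not_inverted (hp : p.Prime) (hp2 : p ≠ 2) (hL : checkChain E F L = true) {x0 : ℕ}
    (hi : checkSearch F ta p [[1, 1]] [[1, 1]] [] L ((List.range 24).map fun y => (x0, y)) = true)
    (hc : checkSearch F ta p [[1, p - 1]] [[1, p - 1]] [idTbl] L
      ((List.range 24).map fun y => (x0, y)) = true) :
    ∀ c ∈ stabGrp E F, c * mkPerm ta * c⁻¹ ≠ (mkPerm ta)⁻¹ := by
  intro c hcG hca
  have := Fact.mk hp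
  set a := mkPerm ta
  set G := stabGrp E F
  have hst : ∀ σ : Equiv.Perm GolayPt, (x0, posFun σ x0) ∈ (List.range 24).map fun y => (x0, y) :=
    fun σ => List.mem_map.2 ⟨_, List.mem_range.2 (idx_lt _), rfl⟩
  have hpow : ∀ n : ℕ, c ^ (2 * n) * a * (c ^ (2 * n))⁻¹ = a ∧
      c ^ (2 * n + 1) * a * (c ^ (2 * n + 1))⁻¹ = a⁻¹ := by
    intro n
    induction n with
    | zero => simp [hca]
    | succ n ih =>
      have h1 : c ^ (2 * (n + 1)) * a * (c ^ (2 * (n + 1)))⁻¹ = a := by
        rw [show 2 * (n + 1) = 1 + (2 * n + 1) by ring, pow_add, pow_one, _root_.mul_inv_rev,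
          show c * c ^ (2 * n + 1) * a * ((c ^ (2 * n + 1))⁻¹ * c⁻¹)
            = c * (c ^ (2 * n + 1) * a * (c ^ (2 * n + 1))⁻¹) * c⁻¹ by group, ih.2,
          show c * a⁻¹ * c⁻¹ = (c * a * c⁻¹)⁻¹ by group, hca, inv_inv]
      refine ⟨h1, ?_⟩
      rw [pow_succ' c (2 * (n + 1)), _root_.mul_inv_rev,
        show c * c ^ (2 * (n + 1)) * a * ((c ^ (2 * (n + 1)))⁻¹ * c⁻¹)
          = c * (c ^ (2 * (n + 1)) * a * (c ^ (2 * (n + 1)))⁻¹) * c⁻¹ by group, h1, hca]
  have hane : a⁻¹ ≠ a := by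
    intro h
    have h2 : a ^ 2 = 1 := by
      rw [sq]
      nth_rewrite 1 [← h]
      exact inv_mul_cancel a
    have := orderOf_dvd_of_pow_eq_one h2
    rw [hB.orderOf_a hp] at this
    exact hp2 ((Nat.prime_dvd_prime_iff_eq hp Nat.prime_two).1 this)
  obtain ⟨k, m, hm, hn⟩ := Nat.exists_eq_two_pow_mul_odd (orderOf_pos c).ne'
  obtain ⟨r, hr⟩ := hm
  rcases k with - | k
  · rw [pow_zero, one_mul, hr] at hn
    have := (hpow r).2
    rw [← hn, pow_orderOf_eq_one, one_mul, inv_one, mul_one] at this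
    exact hane this.symm
  set d := c ^ m with hd
  have hdk : d ^ 2 ^ (k + 1) = 1 := by
    rw [hd, ← pow_mul, mul_comm, ← hn, pow_orderOf_eq_one]
  have hdG : d ∈ G := G.pow_mem hcG m
  have hdne : d ^ 2 ^ k ≠ 1 := by
    intro h
    rw [hd, ← pow_mul] at h
    have := Nat.le_of_dvd (by have := Nat.two_pow_pos k; have : 0 < m := by omega
                              positivity) (orderOf_dvd_of_pow_eq_one h)
    rw [hn, pow_succ] at this
    have h0 : 0 < 2 ^ k * m := Nat.mul_pos (Nat.two_pow_pos k) (by omega)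
    nlinarith
  set τ := d ^ 2 ^ k with hτ
  have hττ : τ * τ = 1 := by rw [hτ, ← pow_add, ← two_mul, ← pow_succ', hdk]
  have hτG : τ ∈ G := G.pow_mem hdG _
  rcases k with - | k
  · have hτa : τ * a * τ⁻¹ = a⁻¹ := by
      rw [hτ, pow_zero, pow_one, hd, hr]; exact (hpow r).2
    have hw : ∀ w ∈ [[1, 1]], wordVal a τ w = 1 := by
      intro w hw
      rw [List.mem_singleton] at hw
      subst hw
      simp only [wordVal, one_mul, pow_one]
      have hτi : τ⁻¹ = τ := inv_eq_of_mul_eq_one_right hττ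
      rw [hτi] at hτa
      calc a * τ * (a * τ) = a * (τ * a * τ) := by group
        _ = 1 := by rw [hτa, mul_inv_cancel]
    obtain ⟨g, hg, -⟩ := checkSearch_sound hL hB.va (by simp) hi hτG hττ hw (hst τ) rfl
    simp at hg
  · have hτa : τ * a * τ⁻¹ = a := by
      have e : τ = c ^ (2 * (m * 2 ^ k)) := by
        rw [hτ, hd, ← pow_mul, pow_succ]; ring_nf
      rw [e]; exact (hpow _).1
    have hw : ∀ w ∈ [[1, p - 1]], wordVal a τ w = 1 := by
      intro w hw
      rw [List.mem_singleton] at hw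
      subst hw
      simp only [wordVal, one_mul, pow_one]
      have hτa' : τ * a = a * τ := mul_inv_eq_iff_eq_mul.1 hτa
      have hap : a ^ (p - 1) * a = 1 := by rw [← pow_succ, Nat.sub_add_cancel hp.one_lt.le]; exact hB.apow
      calc a ^ (p - 1) * τ * (a * τ) = a ^ (p - 1) * (τ * a) * τ := by group
        _ = (a ^ (p - 1) * a) * (τ * τ) := by rw [hτa']; group
        _ = 1 := by rw [hap, hττ, mul_one]
    obtain ⟨g, hg, hgτ⟩ := checkSearch_sound hL hB.va
      (by intro g hg; rw [List.mem_singleton] at hg; subst hg; exact idTbl_spec.1) hc hτG hττ hw (hst τ) rfl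
    rw [List.mem_singleton] at hg
    subst hg
    rw [idTbl_spec.2] at hgτ
    exact hdne hgτ

end BaseFacts

/-- `Cand` from a search with the moved-set normalisation -/
theorem cand_of_move {T p S t i : ℕ} {P W : List (List ℕ)} {bs : List ℕ}
    {starts : List (ℕ × ℕ)} (hL : checkChain E F L = true)
    (hT : inStab E F T = true) (hord : mkPerm T ^ p = 1) (hbs : ∀ B ∈ bs, validT B = true)
    (hm : checkMove E F T p S starts = true) (ht : inStab E F t = true) (hi : i < 24)
    (hiS : S.testBit i = true) (htS : S.testBit (app t i) = false)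
    (hc : checkSearch F T p P W (conjList T p bs) L starts = true) : Cand E F T W bs :=
  fun _ hσ hinv hW hgen => exists_conj_of_search hL hT hord hbs hc hσ hinv hW
    (hasStart_of_move hm (validT_of_inStab hT) hσ hinv hgen ht hi hiS htS)

/-- `Cand` from a search with the fixed-point normalisation -/
theorem cand_of_fix {T p : ℕ} {P W : List (List ℕ)} {bs : List ℕ}
    {starts : List (ℕ × ℕ)} (hL : checkChain E F L = true)
    (hT : inStab E F T = true) (hord : mkPerm T ^ p = 1) (hbs : ∀ B ∈ bs, validT B = true)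
    (hm : checkFix F T p starts = true) (hodd : Odd (24 - popCnt F))
    (hc : checkSearch F T p P W (conjList T p bs) L starts = true) : Cand E F T W bs :=
  fun _ hσ hinv hW _ => exists_conj_of_search hL hT hord hbs hc hσ hinv hW
    (hasStart_of_fix hm (validT_of_inStab hT) hσ (support_ne_of_odd hinv hodd))

/-- `Cand` from a search with the fixed-point normalisation, an odd word giving even permutations -/
theorem cand_of_fix_sign {T p : ℕ} {P W : List (List ℕ)} {bs : List ℕ}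
    {starts : List (ℕ × ℕ)} (hL : checkChain E F L = true)
    (hT : inStab E F T = true) (hord : mkPerm T ^ p = 1) (hbs : ∀ B ∈ bs, validT B = true)
    (hm : checkFix F T p starts = true) (hp : Odd p) (hn : (24 - popCnt F) % 4 = 2) {w : List ℕ}
    (hw : w ∈ W) (hwodd : Odd w.length)
    (hc : checkSearch F T p P W (conjList T p bs) L starts = true) : Cand E F T W bs :=
  fun _ hσ hinv hW _ => exists_conj_of_search hL hT hord hbs hc hσ hinv hW
    (hasStart_of_fix hm (validT_of_inStab hT) hσ (support_ne_of_word hinv hp hord hwodd (hW w hw) hn))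

end Cfsg.Agent.H50
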