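/-
Bi-additive forms on the field with eight elements invariant under all nonzero scalars.
-/
import Mathlib

set_option autoImplicit false

namespace Cfsg.Agent.H50.SzEight

variable {F : Type*} [Field F] [Fintype F]

/-- the only invariant alternating form is zero -/
theorem alt_invariant_eq_zero (hF : Fintype.card F = 8) {W : Type*} [AddCommGroup W]
    (c : F →+ F →+ W) (halt : ∀ x, c x x = 0)
    (hinv : ∀ r : F, r ≠ 0 → ∀ x y, c (r * x) (r * y) = c x y) : c = 0 := by
  have : Fact (Nat.Prime 2) := ⟨Nat.prime_two⟩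
  have : CharP F 2 := charP_of_card_eq_prime_pow (f := 3) hF
  set ψ := c 1 with hψdef
  have h2 : ∀ x, ψ x + ψ x = 0 := fun x => by rw [← map_add, CharTwo.add_self_eq_zero, map_zero]
  have hψ1 : ψ 1 = 0 := halt 1
  have hψ : ∀ a y, a ≠ 0 → c a y = ψ (y / a) := by
    intro a y ha
    have := hinv a ha 1 (y / a)
    rwa [mul_one, mul_div_cancel₀ _ ha] at this
  have hsym : ∀ x y, c x y + c y x = 0 := by
    intro x y
    have := halt (x + y)
    simp only [map_add, AddMonoidHom.add_apply, halt, zero_add, add_zero] at this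
    rwa [add_comm] at this
  have hinvψ : ∀ x, x ≠ 0 → ψ (1 / x) = ψ x := by
    intro x hx
    rw [← hψ x 1 hx]
    exact (eq_neg_of_add_eq_zero_left (hsym x 1)).trans (neg_eq_of_add_eq_zero_left (h2 x))
  have hroot : ∀ x : F, x ≠ 0 → x ≠ 1 → x ^ 3 + x + 1 = 0 → ψ x = 0 := by
    intro x hx hx1 hxc
    have hx1' : (1 : F) + x ≠ 0 := by
      intro h
      exact hx1 (by linear_combination h - CharTwo.two_eq_zero (R := F))
    have e : 1 / (1 + x) + 1 + 1 / x = x := by
      field_simp
      linear_combination hxc + (x - x ^ 3) * CharTwo.two_eq_zero (R := F)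
    rw [← e, map_add, map_add, hψ1, hinvψ x hx, hinvψ _ hx1', map_add, hψ1, add_zero, zero_add]
    exact h2 x
  have hψ0 : ψ = 0 := by
    ext x
    rw [AddMonoidHom.zero_apply]
    rcases eq_or_ne x 0 with rfl | hx
    · exact map_zero _
    rcases eq_or_ne x 1 with rfl | hx1
    · exact hψ1
    have h7 : x ^ 7 = 1 := by
      have := FiniteField.pow_card_sub_one_eq_one x hx
      rwa [hF] at this
    have hprod : (x - 1) * ((x ^ 3 + x + 1) * (x ^ 3 + x ^ 2 + 1)) = 0 := by
      linear_combination h7 - (x ^ 3 - x ^ 4) * CharTwo.two_eq_zero (R := F)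
    rcases mul_eq_zero.1 hprod with h | h
    · exact absurd (sub_eq_zero.1 h) hx1
    rcases mul_eq_zero.1 h with h | h
    · exact hroot x hx hx1 h
    · have hne : x + 1 ≠ 0 := fun h => hx1 (CharTwo.add_eq_zero.1 h)
      have h' := hroot (x + 1) hne (by simpa using hx)
        (by linear_combination h + (x ^ 2 + 2 * x + 1) * CharTwo.two_eq_zero (R := F))
      rwa [map_add, hψ1, add_zero] at h'
  ext a y
  rcases eq_or_ne a 0 with rfl | ha
  · simp
  · rw [hψ a y ha, hψ0]
    rfl

end Cfsg.Agent.H50.SzEight
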