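/-
The 2-part of a stem extension of a group with the Borel subgroup of `Sz(8)` is an image of `F / 𝔽₂`.
-/
import Cfsg.Agent.H50.SchurRigid
import Cfsg.Agent.H50.CommForm
import Cfsg.Agent.H50.SzEightForms

set_option autoImplicit false

namespace Cfsg.Agent.H50.SzEight

open scoped commutatorElement
open Subgroup

universe u

/-- coordinates of a Borel subgroup of type `Sz(8)` -/
structure BorelData (F : Type u) (G : Type u) [Field F] [Group G] where
  v : F → F → G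
  h : Fˣ → G
  mul : ∀ a b a' b', v a b * v a' b' = v (a + a') (b + b' + a ^ 4 * a')
  conj : ∀ r a b, h r * v a b * (h r)⁻¹ = v ((r : F) * a) ((r : F) ^ 5 * b)
  hmul : ∀ r r', h (r * r') = h r * h r'
  U : Subgroup G
  hU : ∀ g, g ∈ U ↔ ∃ a b, v a b = g
  odd_index : Odd U.index

namespace BorelData

variable {F G : Type u} [Field F] [Group G] (D : BorelData F G)

theorem v00 : D.v 0 0 = 1 := by
  have h1 := D.mul 0 0 0 0
  simp at h1
  exact h1

theorem vzz (b b' : F) : D.v 0 b * D.v 0 b' = D.v 0 (b + b') := by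
  rw [D.mul]; simp

/-- a choice of lifts -/
noncomputable def lift {Γ : Type u} [Group Γ] {σ : Γ →* G} (hs : Function.Surjective σ) (a b : F) : Γ :=
  (hs (D.v a b)).choose

theorem map_lift {Γ : Type u} [Group Γ] {σ : Γ →* G} (hs : Function.Surjective σ) (a b : F) :
    σ (D.lift hs a b) = D.v a b := (hs (D.v a b)).choose_spec

end BorelData

section lifts

variable {Γ G : Type u} [Group Γ] [Group G] {σ : Γ →* G}

theorem commute_of_ker (hσ : σ.ker ≤ center Γ) {w : Γ} (hw : σ w = 1) (g : Γ) : Commute g w :=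
  mem_center_iff.1 (hσ (MonoidHom.mem_ker.2 hw)) g

theorem exists_lift_eq {g g' : Γ} (h : σ g = σ g') : ∃ w, σ w = 1 ∧ g = g' * w :=
  ⟨g'⁻¹ * g, by simp [h], by group⟩

theorem commutator_indep (hσ : σ.ker ≤ center Γ) {g k g' k' : Γ} (e1 : σ g = σ g') (e2 : σ k = σ k') :
    ⁅g, k⁆ = ⁅g', k'⁆ := by
  obtain ⟨w1, hw1, rfl⟩ := exists_lift_eq e1
  obtain ⟨w2, hw2, rfl⟩ := exists_lift_eq e2
  rw [commutator_mul_left_of_commute (commute_of_ker hσ hw1 _).symm,
    commutator_mul_right_of_commute (commute_of_ker hσ hw2 _)]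

theorem conj_commutator (T g k : Γ) :
    ⁅T * g * T⁻¹, T * k * T⁻¹⁆ = T * ⁅g, k⁆ * T⁻¹ := by
  simp only [commutatorElement_def]; group

/-- Hall–Witt identity -/
theorem hall_witt (x y z : Γ) :
    ⁅⁅x, y⁆, y * z * y⁻¹⁆ * ⁅⁅y, z⁆, z * x * z⁻¹⁆ * ⁅⁅z, x⁆, x * y * x⁻¹⁆ = 1 := by
  simp only [commutatorElement_def]; group

end lifts

variable {F G : Type u} [Field F] [Fintype F] [Group G] (D : BorelData F G)
variable {Γ : Type u} [Group Γ] {σ : Γ →* G}

/-- lifts of the central involutions commute -/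
theorem lifts_z_commute (hF : Fintype.card F = 8) (hs : Function.Surjective σ) (hk : σ.ker ≤ center Γ)
    (b b' : F) : Commute (D.lift hs 0 b) (D.lift hs 0 b') := by
  let s := D.lift hs
  have hsv : ∀ a b, σ (s a b) = D.v a b := D.map_lift hs
  have k3 : ∀ b b', σ ⁅s 0 b, s 0 b'⁆ = 1 := fun b b' => by
    rw [map_commutatorElement, hsv, hsv, commutatorElement_eq_one_iff_mul_comm, D.vzz, D.vzz, add_comm]
  have cen := fun {w : Γ} (hw : σ w = 1) (g : Γ) => commute_of_ker hk hw g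
  have hadd : ∀ x x', ∃ w, σ w = 1 ∧ s 0 (x + x') = s 0 x * s 0 x' * w := fun x x' =>
    exists_lift_eq (by rw [map_mul, hsv, hsv, hsv, D.vzz])
  have addl := commForm_add_left (fun b => s 0 b) (fun b => s 0 b)
    (fun x x' => by
      obtain ⟨w, hw, e⟩ := hadd x x'
      exact ⟨w, fun y => (cen hw _).symm, e⟩)
    (fun x x' y => cen (k3 x y) _) (fun x x' y => cen (k3 x' y) _)
  have addr := commForm_add_right (fun b => s 0 b) (fun b => s 0 b)
    (fun x x' => by
      obtain ⟨w, hw, e⟩ := hadd x x'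
      exact ⟨w, fun y => cen hw _, e⟩)
    (fun x y y' => cen (k3 x y) _) (fun x y y' => cen (k3 x y') _)
  let _ : CommGroup σ.ker :=
    { (inferInstance : Group σ.ker) with
      mul_comm := fun x y => Subtype.ext (cen (MonoidHom.mem_ker.1 y.2) x.1).eq }
  let c : F →+ F →+ Additive σ.ker :=
    AddMonoidHom.mk' (fun x => AddMonoidHom.mk' (fun y => Additive.ofMul ⟨⁅s 0 x, s 0 y⁆, k3 x y⟩)
        (fun y y' => congrArg Additive.ofMul (Subtype.ext (addr x y y'))))
      (fun x x' => AddMonoidHom.ext fun y => congrArg Additive.ofMul (Subtype.ext (addl x x' y)))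
  have hc : c = 0 := by
    refine alt_invariant_eq_zero hF c (fun x => congrArg Additive.ofMul (Subtype.ext (commutatorElement_self _))) ?_
    intro r hr x y
    refine congrArg Additive.ofMul (Subtype.ext ?_)
    show ⁅s 0 (r * x), s 0 (r * y)⁆ = ⁅s 0 x, s 0 y⁆
    have hr5 : ((Units.mk0 r hr ^ 3 : Fˣ) : F) ^ 5 = r := by
      have h7 := FiniteField.pow_card_sub_one_eq_one r hr
      rw [hF] at h7
      rw [Units.val_pow_eq_pow_val, Units.val_mk0]
      linear_combination (r ^ 8 + r) * h7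
    obtain ⟨T, hT⟩ := hs (D.h (Units.mk0 r hr ^ 3))
    rw [commutator_indep hk (g' := T * s 0 x * T⁻¹) (k' := T * s 0 y * T⁻¹)
      (by rw [map_mul, map_mul, map_inv, hsv, hsv, hT, D.conj, hr5, mul_zero])
      (by rw [map_mul, map_mul, map_inv, hsv, hsv, hT, D.conj, hr5, mul_zero]),
      conj_commutator, (cen (k3 x y) T).eq, mul_inv_cancel_right]
  have := DFunLike.congr_fun (DFunLike.congr_fun hc b) b'
  exact commutatorElement_eq_one_iff_commute.1
    (congrArg Subtype.val (Additive.ofMul.injective (this.trans (by rfl : (0 : Additive σ.ker) = Additive.ofMul 1))))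

/-- the preimage of the centre of `U` -/
def zPre (σ : Γ →* G) : Subgroup Γ :=
  Subgroup.comap σ
    { carrier := {g | ∃ b, g = D.v 0 b}
      one_mem' := ⟨0, D.v00.symm⟩
      mul_mem' := by rintro g g' ⟨b, rfl⟩ ⟨b', rfl⟩; exact ⟨b + b', D.vzz b b'⟩
      inv_mem' := by
        rintro g ⟨b, rfl⟩
        exact ⟨-b, inv_eq_of_mul_eq_one_right (by rw [D.vzz, add_neg_cancel, D.v00])⟩ }

omit [Fintype F] in
theorem mem_zPre {g : Γ} : g ∈ zPre D σ ↔ ∃ b, σ g = D.v 0 b := Iff.rfl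

theorem zPre_commute (hF : Fintype.card F = 8) (hs : Function.Surjective σ) (hk : σ.ker ≤ center Γ)
    {g g' : Γ} (hg : g ∈ zPre D σ) (hg' : g' ∈ zPre D σ) : Commute g g' := by
  obtain ⟨b, hb⟩ := hg
  obtain ⟨b', hb'⟩ := hg'
  obtain ⟨w, hw, rfl⟩ := exists_lift_eq (hb.trans (D.map_lift hs 0 b).symm)
  obtain ⟨w', hw', rfl⟩ := exists_lift_eq (hb'.trans (D.map_lift hs 0 b').symm)
  exact ((lifts_z_commute D hF hs hk b b').mul_right (commute_of_ker hk hw' _)).mul_left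
    ((commute_of_ker hk hw _).symm.mul_right (commute_of_ker hk hw' _))

/-- the form between lifts of `v a 0` and of `v 0 b` -/
theorem exists_beta (hF : Fintype.card F = 8) (hs : Function.Surjective σ) (hk : σ.ker ≤ center Γ) :
    ∃ φ : Multiplicative F →* σ.ker, φ (Multiplicative.ofAdd 1) = 1 ∧
      ∀ a b, ⁅D.lift hs a 0, D.lift hs 0 b⁆ = (φ (Multiplicative.ofAdd (b * a ^ 2)) : Γ) := by
  let s := D.lift hs
  have hsv : ∀ a b, σ (s a b) = D.v a b := D.map_lift hs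
  have : Fact (Nat.Prime 2) := ⟨Nat.prime_two⟩
  have : CharP F 2 := charP_of_card_eq_prime_pow (f := 3) hF
  have cen := fun {w : Γ} (hw : σ w = 1) (g : Γ) => commute_of_ker hk hw g
  have hzW : ∀ b, s 0 b ∈ zPre D σ := fun b => ⟨b, hsv 0 b⟩
  have k2 : ∀ a b, σ ⁅s a 0, s 0 b⁆ = 1 := fun a b => by
    rw [map_commutatorElement, hsv, hsv, commutatorElement_eq_one_iff_mul_comm, D.mul, D.mul]
    congr 1 <;> ring
  have addl := commForm_add_left (fun a => s a 0) (fun b => s 0 b)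
    (fun x x' => by
      refine ⟨(s x 0 * s x' 0)⁻¹ * s (x + x') 0, fun y => zPre_commute D hF hs hk ?_ (hzW y), by group⟩
      refine ⟨-(x ^ 4 * x'), ?_⟩
      rw [map_mul, map_inv, map_mul, hsv, hsv, hsv, inv_mul_eq_iff_eq_mul, D.mul, D.mul]
      congr 1 <;> ring)
    (fun x x' y => cen (k2 x y) _) (fun x x' y => cen (k2 x' y) _)
  have addr := commForm_add_right (fun a => s a 0) (fun b => s 0 b)
    (fun x x' => by
      obtain ⟨w, hw, e⟩ := exists_lift_eq (σ := σ) (g := s 0 (x + x')) (g' := s 0 x * s 0 x')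
        (by rw [map_mul, hsv, hsv, hsv, D.vzz])
      exact ⟨w, fun y => cen hw _, e⟩)
    (fun x y y' => cen (k2 x y) _) (fun x y y' => cen (k2 x y') _)
  let φ : Multiplicative F →* σ.ker :=
    MonoidHom.mk' (fun y => ⟨⁅s 1 0, s 0 y.toAdd⁆, k2 1 y.toAdd⟩)
      (fun y y' => Subtype.ext (addr 1 y.toAdd y'.toAdd))
  have h7 : ∀ a : F, a ≠ 0 → a ^ 7 = 1 := fun a ha => by
    have := FiniteField.pow_card_sub_one_eq_one a ha
    rwa [hF] at this
  have hβ : ∀ a b, ⁅s a 0, s 0 b⁆ = (φ (Multiplicative.ofAdd (b * a ^ 2)) : Γ) := by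
    intro a b
    rcases eq_or_ne a 0 with rfl | ha
    · rw [zero_pow two_ne_zero, mul_zero, ofAdd_zero, map_one, OneMemClass.coe_one,
        commutatorElement_eq_one_iff_commute]
      exact zPre_commute D hF hs hk ⟨0, hsv 0 0⟩ (hzW b)
    · obtain ⟨T, hT⟩ := hs (D.h (Units.mk0 a ha))
      show _ = ⁅s 1 0, s 0 (b * a ^ 2)⁆
      rw [commutator_indep hk (g' := T * s 1 0 * T⁻¹) (k' := T * s 0 (b * a ^ 2) * T⁻¹)
        (by rw [map_mul, map_mul, map_inv, hsv, hsv, hT, D.conj]; simp)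
        (by
          rw [map_mul, map_mul, map_inv, hsv, hsv, hT, D.conj, mul_zero, Units.val_mk0]
          congr 1
          linear_combination -b * h7 a ha),
        conj_commutator, (cen (k2 _ _) T).eq, mul_inv_cancel_right]
  refine ⟨φ, ?_, hβ⟩
  obtain ⟨x, hx0, hx1⟩ : ∃ x : F, x ≠ 0 ∧ x ≠ 1 := by
    classical
    by_contra hall
    push Not at hall
    have hle : Fintype.card F ≤ ({0, 1} : Finset F).card :=
      Finset.card_le_card (s := Finset.univ) fun x _ => by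
        rcases eq_or_ne x 0 with h | h
        · simp [h]
        · simp [hall x h]
    have := hle.trans Finset.card_le_two
    omega
  -- evaluate one double commutator
  have dbl : ∀ a b c, ⁅⁅s a 0, s b 0⁆, s b 0 * s c 0 * (s b 0)⁻¹⁆ =
      ((φ (Multiplicative.ofAdd ((a ^ 4 * b + b ^ 4 * a) * c ^ 2)))⁻¹ : σ.ker) := by
    intro a b c
    set e := a ^ 4 * b + b ^ 4 * a
    have hg : σ ⁅s a 0, s b 0⁆ = σ (s 0 e) := by
      rw [map_commutatorElement, hsv, hsv, hsv, commutatorElement_def, mul_inv_eq_iff_eq_mul,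
        mul_inv_eq_iff_eq_mul, D.mul, D.mul, D.mul]
      congr 1
      · ring
      · linear_combination -(b ^ 4 * a) * CharTwo.two_eq_zero (R := F)
    have hconj : ∃ w ∈ zPre D σ, s b 0 * s c 0 * (s b 0)⁻¹ = s c 0 * w := by
      refine ⟨(s c 0)⁻¹ * (s b 0 * s c 0 * (s b 0)⁻¹), ⟨b ^ 4 * c + c ^ 4 * b, ?_⟩, by group⟩
      rw [map_mul, map_inv, map_mul, map_mul, map_inv, hsv, hsv, inv_mul_eq_iff_eq_mul,
        mul_inv_eq_iff_eq_mul, D.mul, D.mul, D.mul]
      congr 1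
      · ring
      · linear_combination -(c ^ 4 * b) * CharTwo.two_eq_zero (R := F)
    obtain ⟨w, hw, hwe⟩ := hconj
    rw [hwe, commutator_mul_right_of_commute (zPre_commute D hF hs hk
      ⟨e, by rw [hg, hsv]⟩ hw), commutator_indep hk (g' := s 0 e) (k' := s c 0) hg rfl,
      ← commutatorElement_inv, hβ]
    rfl
  have hW := hall_witt (s 1 0) (s x 0) (s (x ^ 2) 0)
  rw [dbl, dbl, dbl, ← Subgroup.coe_mul, ← Subgroup.coe_mul, OneMemClass.coe_eq_one] at hW
  simp only [← map_inv, ← map_mul, ← ofAdd_neg, ← ofAdd_add] at hW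
  refine Eq.trans ?_ hW
  congr 2
  have hsum : x ^ 6 + x ^ 5 + x ^ 4 + x ^ 3 + x ^ 2 + x + 1 = 0 := by
    have : (x - 1) * (x ^ 6 + x ^ 5 + x ^ 4 + x ^ 3 + x ^ 2 + x + 1) = 0 := by
      linear_combination h7 x hx0
    exact (mul_eq_zero.1 this).resolve_left (sub_ne_zero.2 hx1)
  simp only [CharTwo.neg_eq]
  linear_combination -hsum + (- x ^ 2 - x - x ^ 3) * h7 x hx0 + CharTwo.two_eq_zero (R := F)

/-- if lifts of `v a 0` and `v 0 b` commute there is no `2`-part -/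
theorem eq_one_of_commute [Finite Γ] (hF : Fintype.card F = 8) (hσ : IsStemExtension σ)
    (z2 : ∀ a b, Commute (D.lift hσ.1 a 0) (D.lift hσ.1 0 b))
    (z : Γ) (hz : z ∈ σ.ker) (k : ℕ) (hzp : z ^ 2 ^ k = 1) : z = 1 := by
  classical
  obtain ⟨hzQ, hzc⟩ :=
    mem_commutator_comap hσ D.U ((Nat.coprime_two_left.2 D.odd_index).pow_left k) z hz hzp
  let s := D.lift hσ.1
  have hs : ∀ a b, σ (s a b) = D.v a b := D.map_lift hσ.1
  obtain ⟨T, hT⟩ : ∃ T : Fˣ → Γ, ∀ t, σ (T t) = D.h t :=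
    ⟨fun t => (hσ.1 (D.h t)).choose, fun t => (hσ.1 (D.h t)).choose_spec⟩
  have cen := fun {w : Γ} (hw : σ w = 1) (g : Γ) => commute_of_ker hσ.2.1 hw g
  have hWcomm : ∀ g ∈ zPre D σ, ∀ g' ∈ zPre D σ, Commute g g' := fun g hg g' hg' =>
    zPre_commute D hF hσ.1 hσ.2.1 hg hg'
  have hWa : ∀ g ∈ zPre D σ, ∀ a, Commute (s a 0) g := by
    rintro g ⟨b, hb⟩ a
    obtain ⟨w, hw, rfl⟩ := exists_lift_eq (hb.trans (hs 0 b).symm)
    exact (z2 a b).mul_right (cen hw _)
  have hsadd : ∀ a a', ∃ w ∈ zPre D σ, s (a + a') 0 = s a 0 * s a' 0 * w := by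
    intro a a'
    refine ⟨(s a 0 * s a' 0)⁻¹ * s (a + a') 0, ⟨-(a ^ 4 * a'), ?_⟩, by group⟩
    rw [map_mul, map_inv, map_mul, hs, hs, hs, inv_mul_eq_iff_eq_mul, D.mul, D.mul]
    congr 1 <;> ring
  have k1 : ∀ a a', ⁅s a 0, s a' 0⁆ ∈ zPre D σ := by
    intro a a'
    refine ⟨a ^ 4 * a' - a' ^ 4 * a, ?_⟩
    rw [map_commutatorElement, hs, hs, commutatorElement_def, mul_inv_eq_iff_eq_mul, mul_inv_eq_iff_eq_mul,
      D.mul, D.mul, D.mul]
    congr 1 <;> ring
  let _ : CommGroup (zPre D σ) :=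
    { (inferInstance : Group (zPre D σ)) with
      mul_comm := fun x y => Subtype.ext (hWcomm x x.2 y y.2).eq }
  have hcW : ∀ t : Fˣ, ∀ g ∈ zPre D σ, T t * g * (T t)⁻¹ ∈ zPre D σ := by
    rintro t g ⟨b, hb⟩
    refine ⟨(t : F) ^ 5 * b, ?_⟩
    rw [map_mul, map_mul, map_inv, hT, hb, D.conj, mul_zero]
  let A : zPre D σ →* zPre D σ :=
    { toFun := fun w => ∏ t : Fˣ, (⟨T t * w * (T t)⁻¹, hcW t w w.2⟩ : zPre D σ)
      map_one' := Finset.prod_eq_one fun t _ => Subtype.ext (by simp)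
      map_mul' := fun x y => by
        rw [← Finset.prod_mul_distrib]
        refine Finset.prod_congr rfl fun t _ => Subtype.ext ?_
        push_cast
        group }
  have addl := commForm_add_left (fun a => s a 0) (fun a => s a 0)
    (fun x x' => by
      obtain ⟨w, hw, e⟩ := hsadd x x'
      exact ⟨w, fun y => (hWa w hw y).symm, e⟩)
    (fun x x' y => hWa _ (k1 x y) _) (fun x x' y => hWcomm _ (k1 x y) _ (k1 x' y))
  have addr := commForm_add_right (fun a => s a 0) (fun a => s a 0)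
    (fun x x' => by
      obtain ⟨w, hw, e⟩ := hsadd x x'
      exact ⟨w, fun y => hWa w hw y, e⟩)
    (fun x y y' => hWa _ (k1 x y) _) (fun x y y' => hWcomm _ (k1 x y) _ (k1 x y'))
  let c : F →+ F →+ Additive (zPre D σ) :=
    AddMonoidHom.mk' (fun x => AddMonoidHom.mk' (fun y => Additive.ofMul (A ⟨⁅s x 0, s y 0⁆, k1 x y⟩))
        (fun y y' => by
          rw [← ofMul_mul, ← map_mul]
          exact congrArg (fun w => Additive.ofMul (A w)) (Subtype.ext (addr x y y'))))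
      (fun x x' => AddMonoidHom.ext fun y => by
        show Additive.ofMul (A ⟨⁅s (x + x') 0, s y 0⁆, k1 _ y⟩) = Additive.ofMul _ + Additive.ofMul _
        rw [← ofMul_mul, ← map_mul]
        exact congrArg (fun w => Additive.ofMul (A w)) (Subtype.ext (addl x x' y)))
  have hc : c = 0 := by
    refine alt_invariant_eq_zero hF c (fun x => ?_) ?_
    · show Additive.ofMul (A ⟨⁅s x 0, s x 0⁆, k1 x x⟩) = 0
      rw [show (⟨⁅s x 0, s x 0⁆, k1 x x⟩ : zPre D σ) = 1 from Subtype.ext (commutatorElement_self _), map_one]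
      rfl
    intro r0 hr0 x y
    refine congrArg Additive.ofMul ?_
    show (∏ t : Fˣ, (⟨T t * ⁅s (r0 * x) 0, s (r0 * y) 0⁆ * (T t)⁻¹, _⟩ : zPre D σ)) =
      ∏ t : Fˣ, (⟨T t * ⁅s x 0, s y 0⁆ * (T t)⁻¹, _⟩ : zPre D σ)
    set r := Units.mk0 r0 hr0
    refine Fintype.prod_equiv (Equiv.mulRight r) _ _ fun t => Subtype.ext ?_
    show T t * _ * (T t)⁻¹ = T (t * r) * _ * (T (t * r))⁻¹
    rw [commutator_indep hσ.2.1 (g' := T r * s x 0 * (T r)⁻¹) (k' := T r * s y 0 * (T r)⁻¹)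
      (by rw [map_mul, map_mul, map_inv, hs, hs, hT, D.conj]; simp [r])
      (by rw [map_mul, map_mul, map_inv, hs, hs, hT, D.conj]; simp [r])]
    obtain ⟨w, hw, hTw⟩ := exists_lift_eq (σ := σ) (g := T (t * r)) (g' := T t * T r)
      (by rw [map_mul, hT, hT, hT, D.hmul])
    rw [hTw, conj_commutator, mul_assoc (T t * T r) w, ← (cen hw ⁅s x 0, s y 0⁆).eq]
    group
  let P := D.U.comap σ
  have hA0 : ∀ x y, A ⟨⁅s x 0, s y 0⁆, k1 x y⟩ = 1 := fun x y =>
    Additive.ofMul.injective (DFunLike.congr_fun (DFunLike.congr_fun hc x) y)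
  let N : Subgroup Γ := A.ker.map (zPre D σ).subtype
  have hPdec : ∀ g ∈ P, ∃ a, ∃ w ∈ zPre D σ, g = s a 0 * w := by
    intro g hg
    obtain ⟨a, b, hab⟩ := (D.hU (σ g)).1 hg
    refine ⟨a, (s a 0)⁻¹ * g, ⟨b, ?_⟩, by group⟩
    rw [map_mul, map_inv, hs, ← hab, inv_mul_eq_iff_eq_mul, D.mul]
    simp
  have hgen : ∀ g : P, ∀ k : P, ((⁅g, k⁆ : P) : Γ) ∈ N := by
    intro g k
    obtain ⟨a, w, hw, hga⟩ := hPdec g g.2
    obtain ⟨a', w', hw', hka⟩ := hPdec k k.2
    show ⁅(g : Γ), (k : Γ)⁆ ∈ N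
    rw [hga, hka, commutator_mul_left_of_commute ((hWa w hw a').symm.mul_right (hWcomm w hw w' hw')),
      commutator_mul_right_of_commute (hWa w' hw' a)]
    exact ⟨⟨_, k1 a a'⟩, hA0 a a', rfl⟩
  have hzN : z ∈ N := by
    have : commutator ↥P ≤ N.comap P.subtype := by
      rw [_root_.commutator_def, commutator_le]
      exact fun g _ k _ => hgen g k
    exact this hzc
  obtain ⟨⟨z', hz'W⟩, hz'A, rfl⟩ := hzN
  have hval : A ⟨z', hz'W⟩ = (⟨z', hz'W⟩ : zPre D σ) ^ 7 := by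
    show ∏ t : Fˣ, _ = _
    rw [Finset.prod_congr rfl (g := fun _ => (⟨z', hz'W⟩ : zPre D σ)) fun t _ => Subtype.ext (by
      show T t * z' * (T t)⁻¹ = z'
      exact mul_inv_eq_iff_eq_mul.2 (cen (MonoidHom.mem_ker.1 hz) (T t)).eq), Finset.prod_const,
      Finset.card_univ, Fintype.card_units, hF]
  have hz' : A ⟨z', hz'W⟩ = 1 := hz'A
  rw [hval] at hz'
  have h1 : z' ^ 7 = 1 := congrArg Subtype.val hz'
  change z' = 1
  have := (pow_gcd_eq_one (a := z')).2 ⟨h1, hzp⟩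
  rwa [((by norm_num : Nat.Coprime 2 7).pow_left k).symm.gcd_eq_one, pow_one] at this

include D in
/-- the `2`-part lies in an image of `F` killing `1` -/
theorem exists_two_part [Finite Γ] (hF : Fintype.card F = 8) (hσ : IsStemExtension σ) :
    ∃ φ : Multiplicative F →* σ.ker, φ (Multiplicative.ofAdd 1) = 1 ∧
      ∀ z ∈ σ.ker, ∀ k : ℕ, z ^ 2 ^ k = 1 → ∃ y, (φ y : Γ) = z := by
  obtain ⟨φ, hφ1, hφ⟩ := exists_beta D hF hσ.1 hσ.2.1
  refine ⟨φ, hφ1, fun z hz k hzk => ?_⟩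
  let R : Subgroup Γ := φ.range.map σ.ker.subtype
  have hRk : R ≤ σ.ker := by
    rintro _ ⟨w, -, rfl⟩
    exact w.2
  have hRn : R.Normal := ⟨fun n hn g => by
    rw [(commute_of_ker hσ.2.1 (MonoidHom.mem_ker.1 (hRk hn)) g).eq, mul_inv_cancel_right]
    exact hn⟩
  let π := QuotientGroup.mk' R
  let τ : Γ ⧸ R →* G := QuotientGroup.lift R σ hRk
  have hτ : IsStemExtension τ := by
    refine ⟨fun g => ?_, ?_, ?_⟩
    · obtain ⟨x, rfl⟩ := hσ.1 g
      exact ⟨π x, rfl⟩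
    · intro q hq
      obtain ⟨x, rfl⟩ := QuotientGroup.mk'_surjective R q
      rw [mem_center_iff]
      intro q'
      obtain ⟨y, rfl⟩ := QuotientGroup.mk'_surjective R q'
      rw [← map_mul, ← map_mul, (commute_of_ker hσ.2.1 (w := x) hq y).eq]
    · intro q hq
      obtain ⟨x, rfl⟩ := QuotientGroup.mk'_surjective R q
      have : (commutator Γ).map π ≤ commutator (Γ ⧸ R) := by
        rw [_root_.commutator_def, map_commutator]
        exact commutator_mono le_top le_top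
      exact this ⟨x, hσ.2.2 hq, rfl⟩
  have z2 : ∀ a b, Commute (D.lift hτ.1 a 0) (D.lift hτ.1 0 b) := by
    intro a b
    rw [← commutatorElement_eq_one_iff_commute,
      commutator_indep hτ.2.1 (g' := π (D.lift hσ.1 a 0)) (k' := π (D.lift hσ.1 0 b))
        (by rw [D.map_lift]; exact (D.map_lift hσ.1 a 0).symm)
        (by rw [D.map_lift]; exact (D.map_lift hσ.1 0 b).symm),
      ← map_commutatorElement, QuotientGroup.mk'_apply, QuotientGroup.eq_one_iff, hφ]
    exact ⟨_, ⟨_, rfl⟩, rfl⟩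
  have h1 : π z = 1 := eq_one_of_commute D hF hτ z2 (π z) hz k (by rw [← map_pow, hzk, map_one])
  rw [QuotientGroup.mk'_apply, QuotientGroup.eq_one_iff] at h1
  obtain ⟨w, ⟨y, rfl⟩, hw⟩ := h1
  exact ⟨y, hw⟩

end Cfsg.Agent.H50.SzEight
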