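/-
The covering group `2².Sz(8)`: a cocycle on the Borel subgroup, corestricted to the whole group.
-/
import Cfsg.Agent.H50.CocycleExt
import Cfsg.Agent.Suzuki.Lie
import Cfsg.Prelude.Def_KGroupFacts

set_option autoImplicit false

namespace Cfsg.Agent.H50.SzEight

open Cfsg Cfsg.Agent.Suzuki MulAction
open scoped commutatorElement

universe u

variable {F : Type u} [Field F] [Fintype F]

theorem pow_eight (hF : Fintype.card F = 8) (x : F) : x ^ 8 = x := hF ▸ FiniteField.pow_card x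

theorem pow_seven (hF : Fintype.card F = 8) {x : F} (hx : x ≠ 0) : x ^ 7 = 1 := by
  have := FiniteField.pow_card_sub_one_eq_one x hx
  rwa [hF] at this

/-- the coefficients `F / 𝔽₂` -/
abbrev Coef (F : Type u) [Field F] : Type u := F ⧸ AddSubgroup.zmultiples (1 : F)

/-- the quotient map -/
def L : F →+ Coef F := QuotientAddGroup.mk' _

theorem L_eq_zero (hF : Fintype.card F = 8) {x : F} (h : x ^ 2 = x) : L x = 0 := by
  rw [L, QuotientAddGroup.mk'_apply, QuotientAddGroup.eq_zero_iff]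
  have h' : x * (x - 1) = 0 := by linear_combination h
  rcases mul_eq_zero.1 h' with h0 | h1
  · rw [h0]; exact zero_mem _
  · rw [sub_eq_zero.1 h1]; exact AddSubgroup.mem_zmultiples _

/-- the cocycle expression -/
def expr (a b a' : F) : F := b * a' ^ 2 + a ^ 2 * a' ^ 5 + a ^ 3 * a' ^ 4

variable [SzField F 1]

theorem card_eight : Fintype.card F = 8 := (SzField.card_eq (F := F) (m := 1)).trans (by norm_num)

theorem th_four (x : F) : th 1 x = x ^ 4 := rfl

theorem expr_scale {r : F} (hr : r ≠ 0) (a b a' : F) :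
    expr (r * a) (r ^ 5 * b) (r * a') = expr a b a' := by
  have h := pow_seven (card_eight (F := F)) hr
  unfold expr
  linear_combination (b * a' ^ 2 + a ^ 2 * a' ^ 5 + a ^ 3 * a' ^ 4) * h

theorem L_expr_cocycle (a b a' b' a'' : F) :
    L (expr a b a') + L (expr (a + a') (b + b' + a ^ 4 * a') a'') =
      L (expr a' b' a'') + L (expr a b (a' + a'')) := by
  have := charTwo (F := F) 1
  have h8 := pow_eight (card_eight (F := F))
  have key : expr a b a' + expr (a + a') (b + b' + a ^ 4 * a') a'' - expr a' b' a'' - expr a b (a' + a'') =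
      a ^ 4 * a' * a'' ^ 2 + a * a' ^ 2 * a'' ^ 4 + a ^ 2 * a' ^ 4 * a'' := by
    unfold expr
    have h2 : (2 : F) = 0 := CharTwo.two_eq_zero
    ring_nf
    grind
  rw [← sub_eq_zero, ← map_add, ← map_add, ← map_sub, sub_add_eq_sub_sub, key]
  refine L_eq_zero (card_eight (F := F)) ?_
  rw [CharTwo.add_sq, CharTwo.add_sq]
  have e1 := h8 a
  have e2 := h8 a'
  have e3 := h8 a''
  linear_combination a' ^ 2 * a'' ^ 4 * e1 + (a ^ 2 * a' ^ 4) * e3 + (a ^ 4 * a'' ^ 2) * e2

/-- coordinates in the stabiliser of infinity -/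
theorem exists_coord {g : Cfsg.Sz F 1} (hg : g ∈ stabilizer (Cfsg.Sz F 1) (oInf 1 : suzukiOvoid F 1)) :
    ∃ p : F × F × Fˣ, g = u 1 p.1 p.2.1 * t 1 p.2.2 := by
  obtain ⟨a, b, s, h⟩ := exists_u_t_of_fix_oInf 1 hg
  exact ⟨(a, b, s), h⟩

theorem coord_unique {a b a' b' : F} {s s' : Fˣ} (h : u 1 a b * t 1 s = u 1 a' b' * t 1 s') :
    a = a' ∧ b = b' ∧ s = s' := by
  have h1 := congrArg (fun g => g • oPt 1 (0 : F) 0) h
  simp only [mul_smul, t_smul_oPt, mul_zero, u_smul_oPt, zero_add, oPt_inj] at h1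
  obtain ⟨rfl, h2⟩ := h1
  simp only [add_zero] at h2
  subst h2
  exact ⟨rfl, rfl, t_injective 1 (mul_left_cancel h)⟩

open Classical in
/-- coordinates, junk outside the stabiliser -/
noncomputable def coord (g : Cfsg.Sz F 1) : F × F × Fˣ :=
  if h : g ∈ stabilizer (Cfsg.Sz F 1) (oInf 1 : suzukiOvoid F 1) then (exists_coord h).choose else (0, 0, 1)

theorem coord_ut (a b : F) (s : Fˣ) : coord (u 1 a b * t 1 s) = (a, b, s) := by
  have h : u 1 a b * t 1 s ∈ stabilizer (Cfsg.Sz F 1) (oInf 1 : suzukiOvoid F 1) := by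
    rw [mem_stabilizer_iff, mul_smul, t_smul_oInf, u_smul_oInf]
  rw [coord, dif_pos h]
  obtain ⟨e1, e2, e3⟩ := coord_unique (exists_coord h).choose_spec.symm
  exact Prod.ext e1 (Prod.ext e2 e3)

theorem coord_u (a b : F) : coord (u 1 a b) = (a, b, 1) := by
  have := coord_ut a b (1 : Fˣ)
  rwa [map_one, mul_one] at this

theorem coord_one : coord (1 : Cfsg.Sz F 1) = (0, 0, 1) := by
  have := coord_u (0 : F) 0
  rwa [u_zero] at this

theorem mul_ut (a b a' b' : F) (s s' : Fˣ) :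
    u 1 a b * t 1 s * (u 1 a' b' * t 1 s') =
      u 1 (a + th 1 (s : F) * a') (b + th 1 (s : F) ^ 5 * b' + a ^ 4 * (th 1 (s : F) * a')) *
        t 1 (s * s') := by
  have h8 := pow_eight (card_eight (F := F)) (s : F)
  have e : (s : F) ^ 2 * th 1 (s : F) = th 1 (s : F) ^ 5 := by
    rw [th_four]
    have h7 := pow_seven (card_eight (F := F)) s.ne_zero
    linear_combination (-(s : F) ^ 6) * ((s : F) ^ 7 + 1) * h7
  rw [map_mul, ← e]
  calc u 1 a b * t 1 s * (u 1 a' b' * t 1 s')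
      = u 1 a b * (t 1 s * u 1 a' b' * (t 1 s)⁻¹) * (t 1 s * t 1 s') := by group
    _ = _ := by rw [t_u, u_mul]; rfl

/-- the cocycle on the stabiliser -/
noncomputable def borelCocycle (g h : Cfsg.Sz F 1) : Coef F :=
  L (expr (coord g).1 (coord g).2.1 (th 1 ((coord g).2.2 : F) * (coord h).1))

theorem borelCocycle_ut (a b a' b' : F) (s s' : Fˣ) :
    borelCocycle (u 1 a b * t 1 s) (u 1 a' b' * t 1 s') = L (expr a b (th 1 (s : F) * a')) := by
  rw [borelCocycle, coord_ut, coord_ut]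

theorem borel_one (x : Cfsg.Sz F 1) :
    borelCocycle 1 x = 0 ∧ borelCocycle x 1 = 0 := by
  constructor
  · rw [borelCocycle, coord_one]
    simp [expr]
  · rw [borelCocycle, coord_one]
    simp [expr]

theorem borel_assoc {x y z : Cfsg.Sz F 1} (hx : x ∈ stabilizer (Cfsg.Sz F 1) (oInf 1 : suzukiOvoid F 1))
    (hy : y ∈ stabilizer (Cfsg.Sz F 1) (oInf 1 : suzukiOvoid F 1))
    (hz : z ∈ stabilizer (Cfsg.Sz F 1) (oInf 1 : suzukiOvoid F 1)) :
    borelCocycle x y + borelCocycle (x * y) z = borelCocycle y z + borelCocycle x (y * z) := by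
  obtain ⟨⟨a, b, s⟩, rfl⟩ := exists_coord hx
  obtain ⟨⟨a', b', s'⟩, rfl⟩ := exists_coord hy
  obtain ⟨⟨a'', b'', s''⟩, rfl⟩ := exists_coord hz
  simp only [mul_ut, borelCocycle_ut]
  set r := th 1 (s : F)
  have hr : r ≠ 0 := by simp [r]
  rw [show th 1 ((s * s' : Fˣ) : F) = r * th 1 (s' : F) by rw [Units.val_mul, th_mul],
    mul_assoc r, mul_add r, ← expr_scale hr a' b']
  exact L_expr_cocycle a b (r * a') (r ^ 5 * b') (r * (th 1 (s' : F) * a''))

open Classical in
/-- transversal -/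
noncomputable def rep (p : suzukiOvoid F 1) : Cfsg.Sz F 1 :=
  if h : ∃ q : F × F, p = oPt 1 q.1 q.2 then u 1 h.choose.1 h.choose.2 * w 1 else 1

theorem rep_oInf : rep (oInf 1 : suzukiOvoid F 1) = 1 := by
  rw [rep, dif_neg]
  rintro ⟨q, hq⟩
  exact oPt_ne_oInf 1 _ _ hq.symm

theorem rep_oPt (x y : F) : rep (oPt 1 x y) = u 1 x y * w 1 := by
  have h : ∃ q : F × F, oPt 1 x y = oPt 1 q.1 q.2 := ⟨(x, y), rfl⟩
  rw [rep, dif_pos h]
  obtain ⟨e1, e2⟩ := oPt_inj.1 h.choose_spec
  rw [← e1, ← e2]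

theorem rep_spec (p : suzukiOvoid F 1) : rep p • (oInf 1 : suzukiOvoid F 1) = p := by
  rcases ovoid_cases p with rfl | ⟨x, y, rfl⟩
  · rw [rep_oInf, one_smul]
  · rw [rep_oPt, mul_smul, w_smul_oInf, u_smul_oPt]
    simp

theorem schreier_u_oInf (a b : F) : schreier rep (u 1 a b) (oInf 1) = u 1 a b := by
  rw [schreier, u_smul_oInf, rep_oInf]
  group

theorem schreier_u_oPt (a b : F) {p : suzukiOvoid F 1} (hp : p ≠ oInf 1) :
    schreier rep (u 1 a b) p = 1 := by
  obtain ⟨x, y, rfl⟩ := (ovoid_cases p).resolve_left hp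
  rw [schreier, u_smul_oPt, rep_oPt, rep_oPt, mul_assoc _ (u 1 a b), ← mul_assoc (u 1 a b), u_mul,
    show x + a = a + x from add_comm x a,
    show y + b + th 1 a * x = b + y + th 1 a * x by ring, inv_mul_cancel]

variable [Fintype (suzukiOvoid F 1)]

/-- the cocycle on the whole group -/
noncomputable def cocycle : Cocycle (Cfsg.Sz F 1) (Coef F) :=
  cores rep rep_spec borelCocycle (fun x _ => borel_one x) (fun _ hx _ hy _ hz => borel_assoc hx hy hz)

theorem cocycle_u (a b a' b' : F) :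
    (cocycle (F := F)).f (u 1 a b) (u 1 a' b') = L (expr a b a') := by
  classical
  show ∑ p, borelCocycle (schreier rep (u 1 a b) (u 1 a' b' • p)) (schreier rep (u 1 a' b') p) = _
  rw [Finset.sum_eq_single (oInf 1 : suzukiOvoid F 1)]
  · rw [u_smul_oInf, schreier_u_oInf, schreier_u_oInf, borelCocycle, coord_u, coord_u]
    simp [th_four]
  · intro p _ hp
    rw [schreier_u_oPt a' b' hp]
    exact (borel_one _).2
  · exact fun h => absurd (Finset.mem_univ _) h

/-- all of the kernel consists of commutators -/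
theorem ker_le_commutator : (cocycle (F := F)).proj.ker ≤ commutator (cocycle (F := F)).Ext := by
  intro x hx
  obtain ⟨α, g⟩ := x
  obtain rfl : g = 1 := hx
  obtain ⟨r, rfl⟩ := QuotientAddGroup.mk_surjective α
  set a : F := r ^ 4
  have hcomm : u 1 (0 : F) 1 * u 1 a 0 = u 1 a 0 * u 1 (0 : F) 1 := by
    rw [u_mul, u_mul]
    simp [th_four, add_comm]
  show (⟨L r, 1⟩ : (cocycle (F := F)).Ext) ∈ commutator (cocycle (F := F)).Ext
  rw [(cocycle (F := F)).commutator_lift hcomm (L r) ?_, _root_.commutator_def]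
  · exact Subgroup.commutator_mem_commutator (Subgroup.mem_top _) (Subgroup.mem_top _)
  rw [cocycle_u, cocycle_u]
  simp only [expr, a]
  rw [← map_sub]
  congr 1
  have h8 := pow_eight (card_eight (F := F)) r
  linear_combination -h8

/-- a stem extension of `Sz(8)` with kernel `F / 𝔽₂` -/
theorem exists_cover : ∃ (Γ : Type u) (_ : Group Γ) (_ : Finite Γ) (σ : Γ →* Cfsg.Sz F 1),
    IsStemExtension σ ∧ Nonempty (σ.ker ≃* Multiplicative (Coef F)) :=
  ⟨(cocycle (F := F)).Ext, inferInstance, inferInstance, (cocycle (F := F)).proj,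
    ⟨(cocycle (F := F)).proj_surjective, (cocycle (F := F)).ker_le_center, ker_le_commutator⟩,
    ⟨(cocycle (F := F)).kerEquiv⟩⟩

end Cfsg.Agent.H50.SzEight
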